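import Groth.Agent.Nori99.Induced
import Mathlib.AlgebraicGeometry.Morphisms.ClosedImmersion
import Mathlib.AlgebraicGeometry.AffineTransitionLimit

/-!
Morphisms of profinite group schemes which are closed immersions.
-/

set_option autoImplicit false
set_option backward.isDefEq.respectTransparency.types false
set_option linter.style.haveILetI false

noncomputable section

universe u

open CategoryTheory CategoryTheory.Limits MonoidalCategory CartesianMonoidalCategory MonObj AlgebraicGeometry

namespace Groth.Agent.Nori99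

attribute [local instance] IsCofiltered.isConnected NoriFGS.ProFinPres.cat NoriFGS.ProFinPres.cofiltered
  NoriFGS.ProFinPres.grp NoriFGS.ProFinPres.finite

variable {k : Type u} [Field k]

/-- every function on a profinite group comes from a finite stage -/
theorem exists_stage {πN : Over (Spec (CommRingCat.of k))} [GrpObj πN] (pres : NoriFGS.ProFinPres πN)
    (r : Γ(πN.left, ⊤)) :
    ∃ (i : pres.I) (t : Γ((pres.D.obj i).left, ⊤)), (show πN ⟶ pres.D.obj i from pres.π.app i).left.appTop t = r := by
  haveI : ∀ i, IsAffine ((pres.D ⋙ Over.forget _).obj i) := fun i => by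
    exact @isAffine_of_isAffineHom _ _ (pres.D.obj i).hom (pres.finite i).toIsAffineHom inferInstance
  obtain ⟨i, t, ht⟩ := exists_appTop_π_eq_of_isAffine_of_isLimit (pres.D ⋙ Over.forget _)
    ((Over.forget _).mapCone (Cone.mk πN pres.π)) (isLimitOfPreserves _ pres.isLimit) r
  exact ⟨i, t, ht⟩

theorem isClosedImmersion_of_factor {πX πY : Over (Spec (CommRingCat.of k))} [GrpObj πX] [GrpObj πY]
    (hX : NoriFGS.IsProFinite πX) (hY : NoriFGS.IsProFinite πY) (φ : πX ⟶ πY)
    (pres : NoriFGS.ProFinPres πX)
    (h : ∀ i, ∃ (G H : Over (Spec (CommRingCat.of k))) (_ : IsFinite H.hom) (ψ : πX ⟶ G) (e : G ⟶ pres.D.obj i)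
      (j : G ⟶ H) (_ : IsClosedImmersion j.left) (θ : πY ⟶ H),
      ψ ≫ e = pres.π.app i ∧ ψ ≫ j = φ ≫ θ) :
    IsClosedImmersion φ.left := by
  haveI := isAffineHom_of_isProFinite hX
  haveI := isAffineHom_of_isProFinite hY
  haveI : IsAffine πX.left := isAffine_of_isAffineHom πX.hom
  haveI : IsAffine πY.left := isAffine_of_isAffineHom πY.hom
  refine IsClosedImmersion.of_surjective_of_isAffine φ.left fun r => ?_
  obtain ⟨i, t, rfl⟩ := exists_stage pres r
  obtain ⟨G, H, _, ψ, e, j, _, θ, he, hj⟩ := h i
  haveI : IsAffine H.left := isAffine_of_isAffineHom H.hom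
  obtain ⟨w, hw⟩ := (IsClosedImmersion.isAffine_surjective_of_isAffine j.left).2 (e.left.appTop t)
  refine ⟨θ.left.appTop w, ?_⟩
  have h1 : ψ.left.appTop (j.left.appTop w) = φ.left.appTop (θ.left.appTop w) :=
    congr($(congrArg (fun m : πX ⟶ H => Scheme.Hom.appTop m.left) hj) w)
  have h2 : ψ.left.appTop (e.left.appTop t) = (show πX ⟶ pres.D.obj i from pres.π.app i).left.appTop t :=
    congr($(congrArg (fun m : πX ⟶ pres.D.obj i => Scheme.Hom.appTop m.left) he) t)
  rw [← h1, hw, h2]

end Groth.Agent.Nori99
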