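import Groth.Agent.Nori99.Closed
import Groth.Agent.Push96.Unique
import Groth.Agent.GMod80.Dict
import Groth.Agent.Comod33.HopfFlat

/-!
The classifying homomorphism of a Nori-reduced torsor is dense; dominant homomorphisms of affine groups are
faithfully flat.
-/

set_option autoImplicit false
set_option backward.isDefEq.respectTransparency.types false
set_option linter.style.haveILetI false

noncomputable section

universe u

open CategoryTheory CategoryTheory.Limits MonoidalCategory CartesianMonoidalCategory MonObj AlgebraicGeometry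

namespace Groth.Agent.Nori99

local notation "K" => Scheme.fpqcPrecoverage

variable {k : Type u} [Field k] {X : Scheme.{u}} [X.Over (Spec (CommRingCat.of k))]
  {x : Spec (CommRingCat.of k) ⟶ X} {πN : Over (Spec (CommRingCat.of k))} [GrpObj πN] {P : Over X}
  {a : AlgGrp.Action (Red.bc (X ↘ Spec (CommRingCat.of k)) πN) P} {p : Spec (CommRingCat.of k) ⟶ P.left}

theorem pushforward_eq {S : Scheme.{u}} {J J' A B : Over S} [GrpObj J] [GrpObj J'] {u : J ⟶ J'} [IsMonHom u]
    {α : AlgGrp.Action J A} {β : AlgGrp.Action J' B} {f : A ⟶ B}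
    (h : AlgGrp.Action.IsEquivariant α (β.restrict u) f) :
    α.act ≫ f = lift (fst J A ≫ u) (snd J A ≫ f) ≫ β.act := by
  have := equiv_pt h (fst J A) (snd J A)
  rw [lift_fst_snd, Category.id_comp, AlgGrp.Action.lift_restrict_act] at this
  exact this

theorem dense_of_isNoriReduced (hx : x ≫ (X ↘ Spec (CommRingCat.of k)) = 𝟙 _) (hP : NoriFGS.IsFGS x πN a p)
    {G : Over (Spec (CommRingCat.of k))} [GrpObj G] [IsFinite G.hom] {ψ : πN ⟶ G} [IsMonHom ψ] {T : Over X}
    {b : AlgGrp.Action (Red.bc (X ↘ Spec (CommRingCat.of k)) G) T} {t : Spec (CommRingCat.of k) ⟶ T.left}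
    (hT : NonAbH1.IsTorsorFor K b) (ht : t ≫ T.hom = x) {f : P ⟶ T} (hf : NoriFGS.IsPtTorsorHom a p b t ψ f)
    (hred : NoriFGS.IsNoriReduced K b) : Dense ψ := by
  obtain ⟨G₀, _, _, em, _, _, ψ₀, _, T₀, b₀, t₀, f₀, hψ₀, hem, hT₀, ht₀, hf₀, -⟩ := exists_reduced_image hx hP ψ
  haveI : Mono em := Over.mono_of_mono_left em
  let s := X ↘ Spec (CommRingCat.of k)
  obtain ⟨r, ⟨hr, hr'⟩, -⟩ := Push96.existsUnique_map ((Over.pullback s).map ψ₀) ((Over.pullback s).map em) hP.2.1 hT₀ f₀
    (pushforward_eq hf₀.1) f (a'' := b) (by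
      have := pushforward_eq hf.1
      rw [← hem, Functor.map_comp] at this
      exact this)
  have hreq : AlgGrp.Action.IsEquivariant b₀ (b.restrict ((Over.pullback s).map em)) r :=
    equiv_of_pt fun g z => by
      rw [AlgGrp.Action.lift_restrict_act, hr, comp_lift_assoc, lift_fst_assoc, lift_snd_assoc]
  let rk := (Over.map s).map r
  have hrk : ∀ {Z : Over (Spec (CommRingCat.of k))} (h : Z ⟶ G₀) (z : Z ⟶ (Over.map s).obj T₀),
      Tors37.gact b₀ h z ≫ rk = Tors37.gact b (h ≫ em) (z ≫ rk) := fun h z => by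
    rw [Tors37.gact_equivariant b₀ hreq, Tors37.gact_restrict]
  -- closed immersion
  haveI : Mono r := ⟨fun {W} q₁ q₂ e => by
    obtain ⟨g, hg, -⟩ := Sga84.existsUnique_actPt b₀ hT₀.1 q₁ q₂
    have hrg : Sga84.actPt b (g ≫ (Over.pullback s).map em) (q₁ ≫ r) = q₂ ≫ r := by
      rw [← hg]; exact (Push96.equivariant_pt hr g q₁).symm
    have h1 : g ≫ (Over.pullback s).map em = 1 :=
      (Sga84.existsUnique_actPt b hT.1 (q₁ ≫ r) (q₁ ≫ r)).unique (hrg.trans e.symm) (AlgGrp79.one_act' b (q₁ ≫ r))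
    haveI : Mono ((Over.pullback s).map em) := inferInstance
    have hg1 : g = 1 := (cancel_mono ((Over.pullback s).map em)).mp (h1.trans (MonObj.one_comp _).symm)
    rw [← hg, hg1]
    exact (AlgGrp79.one_act' b₀ q₁).symm⟩
  haveI hTfin : ∀ {Q : Over (Spec (CommRingCat.of k))} [GrpObj Q] [IsFinite Q.hom] {U : Over X}
      {c : AlgGrp.Action (Red.bc s Q) U}, NonAbH1.IsTorsorFor K c → IsFinite U.hom := fun hU => by
    haveI := Unr55.isFinite.{u}
    exact Sga84.hom_of_isTorsorFor @IsFinite (MorphismProperty.pullback_snd (P := @IsFinite) _ _ inferInstance) hU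
  haveI := hTfin hT
  haveI := hTfin hT₀
  haveI : IsFinite r.left := by
    haveI : IsFinite (r.left ≫ T.hom) := by rw [Over.w]; infer_instance
    exact IsFinite.of_comp r.left T.hom
  haveI : Mono r.left := inferInstanceAs (Mono ((Over.forget X).map r))
  haveI : IsClosedImmersion r.left := (IsClosedImmersion.iff_isFinite_and_mono _).2 ⟨inferInstance, inferInstance⟩
  haveI : IsIso r := hred G₀ em T₀ r b₀ hT₀ hreq
  -- the subgroup is everything
  let pt : ∀ {U : Over X} (u : Spec (CommRingCat.of k) ⟶ U.left), u ≫ U.hom = x →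
      (𝟙_ (Over (Spec (CommRingCat.of k))) ⟶ (Over.map s).obj U) := fun u hu =>
    Over.homMk u (by show u ≫ _ ≫ s = 𝟙 _; rw [reassoc_of% hu]; exact hx)
  have hpt : pt t₀ ht₀ ≫ rk = pt t ht := by
    refine Over.OverMorphism.ext ?_
    show t₀ ≫ r.left = t
    rw [← hf₀.2, Category.assoc, ← Over.comp_left, hr']
    exact hf.2
  haveI : IsIso em := by
    let z := Tors37.gact b (𝟙 G) (toUnit G ≫ pt t ht)
    obtain ⟨h, hh, -⟩ := Tors37.existsUnique_gact b₀ hT₀.1 (toUnit G ≫ pt t₀ ht₀) (z ≫ inv rk) (by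
      rw [Over.comp_left, Category.assoc]
      show (toUnit G).left ≫ t₀ ≫ T₀.hom = (z.left ≫ (inv rk).left) ≫ T₀.hom
      have e : (inv rk).left ≫ T₀.hom = T.hom := by
        rw [show T.hom = (inv rk ≫ rk).left ≫ T.hom by simp, Over.comp_left, Category.assoc]
        congr 1
        exact (Over.w r).symm
      rw [ht₀, Category.assoc, e, Tors37.gact_base]
      show _ = ((toUnit G).left ≫ t) ≫ T.hom
      rw [Category.assoc, ht])
    have h2 := congrArg (· ≫ rk) hh
    simp only [Category.assoc, IsIso.inv_hom_id, Category.comp_id, hrk, hpt] at h2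
    haveI : IsSplitEpi em := IsSplitEpi.mk' ⟨h, Tors37.gact_inj b hT.1 h2⟩
    exact isIso_of_mono_of_isSplitEpi em
  haveI : IsIso em.left := inferInstanceAs (IsIso ((Over.forget _).map em))
  haveI := hψ₀.1
  haveI := hψ₀.2
  refine ⟨?_, ?_⟩ <;> rw [← hem, Over.comp_left]
  · infer_instance
  · infer_instance

theorem flat_surjective_of_injective {G H : Over (Spec (CommRingCat.of k))} [GrpObj G] [GrpObj H] [IsAffine G.left]
    [IsAffine H.left] (φ : G ⟶ H) [IsMonHom φ] (h : Function.Injective φ.left.appTop.hom) :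
    Flat φ.left ∧ Surjective φ.left := by
  obtain ⟨A, _, _, ψ, _⟩ := GMod80.exists_coord H
  obtain ⟨A', _, _, ψ', _⟩ := GMod80.exists_coord G
  let j := GMod80.pullBialg ψ ψ' φ
  have hj : ∀ z, φ.left.appTop.hom (GMod80.fn ψ z) = GMod80.fn ψ' (j z) := fun z => GMod80.appTop_i_fn ψ ψ' φ z
  have hji : Function.Injective j := fun z w e => (GMod80.fn ψ).injective (h (by rw [hj, hj, e]))
  have hff := Comod33.HopfFlat.faithfullyFlat_of_injective j hji
  rw [Flat.flat_and_surjective_iff_faithfullyFlat_of_isAffine]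
  have e : φ.left.appTop.hom =
      (GMod80.fn ψ').toRingHom.comp ((j : A →+* A').comp (GMod80.fn ψ).symm.toRingHom) := by
    refine RingHom.ext fun w => ?_
    obtain ⟨z, rfl⟩ := (GMod80.fn ψ).surjective w
    simp [hj]
  rw [e]
  exact RingHom.FaithfullyFlat.stableUnderComposition _ _
    (RingHom.FaithfullyFlat.stableUnderComposition _ _
      (RingHom.FaithfullyFlat.of_bijective (GMod80.fn ψ).symm.bijective) hff)
    (RingHom.FaithfullyFlat.of_bijective (GMod80.fn ψ').bijective)

end Groth.Agent.Nori99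

namespace Groth.Agent.Nori99

theorem isSTD_of_flat_surjective {A B : Scheme.{u}} (f : A ⟶ B) [Flat f] [Surjective f] [QuasiCompact f] :
    IsSchemeTheoreticallyDominant f := by
  haveI := Grpd80.isSTD_toImage f
  let l : B ⟶ f.image := EffectiveEpi.desc f f.toImage fun {W} a b h => by
    rw [← cancel_mono f.imageι, Category.assoc, Category.assoc, Scheme.Hom.toImage_imageι, h]
  have hl : l ≫ f.imageι = 𝟙 B := by
    rw [← cancel_epi f, ← Category.assoc, EffectiveEpi.fac, Scheme.Hom.toImage_imageι, Category.comp_id]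
  haveI : IsSplitEpi f.imageι := IsSplitEpi.mk' ⟨l, hl⟩
  haveI : IsIso f.imageι := isIso_of_mono_of_isSplitEpi _
  rw [← Scheme.Hom.toImage_imageι f]
  infer_instance

variable {k : Type u} [Field k]

attribute [local instance] NoriFGS.ProFinPres.cat NoriFGS.ProFinPres.cofiltered
  NoriFGS.ProFinPres.grp NoriFGS.ProFinPres.finite in
theorem injective_of_dense {πX πY : Over (Spec (CommRingCat.of k))} [GrpObj πX] [GrpObj πY]
    (pres : NoriFGS.ProFinPres πY) (φ : πX ⟶ πY)
    (h : ∀ i, ∃ (G : Over (Spec (CommRingCat.of k))) (ψ : πY ⟶ G) (e : G ⟶ pres.D.obj i),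
      ψ ≫ e = pres.π.app i ∧ Dense (φ ≫ ψ)) :
    Function.Injective φ.left.appTop.hom := by
  rw [injective_iff_map_eq_zero]
  intro r hr
  obtain ⟨i, t, rfl⟩ := exists_stage pres r
  obtain ⟨G, ψ, e, he, hd⟩ := h i
  haveI := hd.1
  haveI := hd.2
  have h1 : ψ.left.appTop (e.left.appTop t) = (show πY ⟶ pres.D.obj i from pres.π.app i).left.appTop t :=
    congr($(congrArg (fun m : πY ⟶ pres.D.obj i => Scheme.Hom.appTop m.left) he) t)
  rw [← h1] at hr ⊢
  have h2 : (φ ≫ ψ).left.appTop (e.left.appTop t) = 0 := hr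
  have h3 : e.left.appTop t = 0 := Scheme.Hom.app_injective (φ ≫ ψ).left ⊤ (h2.trans (map_zero _).symm)
  rw [h3, map_zero]

end Groth.Agent.Nori99
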