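import Groth.Agent.Nori99.Dominant
import Groth.Agent.Push96.Unique
import Mathlib.AlgebraicGeometry.AlgClosed.Basic
import Mathlib.AlgebraicGeometry.Noetherian
import Mathlib.AlgebraicGeometry.AffineTransitionLimit

/-!
Essentially finite torsors and the fundamental group scheme.
-/

set_option autoImplicit false
set_option backward.isDefEq.respectTransparency.types false
set_option linter.style.haveILetI false

noncomputable section

universe u

open CategoryTheory CategoryTheory.Limits MonoidalCategory CartesianMonoidalCategory MonObj AlgebraicGeometry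
open TopologicalSpace

namespace Groth.Agent.Nori99

attribute [local instance] IsCofiltered.isConnected NoriFGS.ProFinPres.cat NoriFGS.ProFinPres.cofiltered
  NoriFGS.ProFinPres.grp NoriFGS.ProFinPres.finite

variable {k : Type u} [Field k]

/-- finitely many functions come from one stage -/
theorem exists_stage_finset {πN : Over (Spec (CommRingCat.of k))} [GrpObj πN] (pres : NoriFGS.ProFinPres πN)
    (s : Finset Γ(πN.left, ⊤)) :
    ∃ i : pres.I, ∀ r ∈ s, r ∈ (show πN ⟶ pres.D.obj i from pres.π.app i).left.appTop.hom.range := by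
  classical
  induction s using Finset.induction_on with
  | empty => exact ⟨IsCofiltered.nonempty.some, by simp⟩
  | @insert r s _ ih =>
    obtain ⟨i, hi⟩ := ih
    obtain ⟨j, t, ht⟩ := exists_stage pres r
    obtain ⟨l, f, g, -⟩ := IsCofilteredOrEmpty.cone_objs i j
    refine ⟨l, fun r' hr' => ?_⟩
    have hw : ∀ {m : pres.I} (h : l ⟶ m) (z : Γ((pres.D.obj m).left, ⊤)),
        (show πN ⟶ pres.D.obj m from pres.π.app m).left.appTop z =
          (show πN ⟶ pres.D.obj l from pres.π.app l).left.appTop ((pres.D.map h).left.appTop z) := fun {m} h z =>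
      congr($(congrArg (fun a : πN ⟶ pres.D.obj m => Scheme.Hom.appTop a.left) ((Cone.mk πN pres.π).w h).symm) z)
    rcases Finset.mem_insert.1 hr' with rfl | h
    · exact ⟨_, (hw g t).symm.trans ht⟩
    · obtain ⟨z, hz⟩ := hi r' h
      exact ⟨_, (hw f z).symm.trans hz⟩

theorem isFinite_of_dense_of_finiteType {πN H : Over (Spec (CommRingCat.of k))} [GrpObj πN] [IsAffine H.left]
    [LocallyOfFiniteType H.hom] (pres : NoriFGS.ProFinPres πN) {ψ : πN ⟶ H} (hψ : Dense ψ) : IsFinite H.hom := by
  classical
  haveI := hψ.1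
  haveI := hψ.2
  have hinj : Function.Injective ψ.left.appTop.hom := Scheme.Hom.app_injective ψ.left ⊤
  let tg : k →+* Γ(H.left, ⊤) := ((Scheme.ΓSpecIso (CommRingCat.of k)).inv ≫ H.hom.appTop).hom
  letI : Algebra k Γ(H.left, ⊤) := tg.toAlgebra
  have hbij : Function.Bijective (Scheme.ΓSpecIso (CommRingCat.of k)).inv :=
    ConcreteCategory.bijective_of_isIso _
  haveI : Algebra.FiniteType k Γ(H.left, ⊤) :=
    RingHom.FiniteType.comp (HasRingHomProperty.appTop (P := @LocallyOfFiniteType) H.hom inferInstance)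
      (RingHom.FiniteType.of_surjective _ hbij.2)
  obtain ⟨s, hs⟩ := Algebra.FiniteType.out (R := k) (A := Γ(H.left, ⊤))
  obtain ⟨i, hi⟩ := exists_stage_finset pres (s.image ψ.left.appTop.hom)
  let πi : πN ⟶ pres.D.obj i := pres.π.app i
  haveI : IsFinite (pres.D.obj i).hom := pres.finite i
  let tπ : k →+* Γ(πN.left, ⊤) := ((Scheme.ΓSpecIso (CommRingCat.of k)).inv ≫ πN.hom.appTop).hom
  let tD : k →+* Γ((pres.D.obj i).left, ⊤) := ((Scheme.ΓSpecIso (CommRingCat.of k)).inv ≫ (pres.D.obj i).hom.appTop).hom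
  letI : Algebra k Γ(πN.left, ⊤) := tπ.toAlgebra
  letI : Algebra k Γ((pres.D.obj i).left, ⊤) := tD.toAlgebra
  haveI : Module.Finite k Γ((pres.D.obj i).left, ⊤) := by
    have : tD.Finite := RingHom.Finite.comp (Scheme.Hom.finite_appTop (pres.D.obj i).hom)
      (RingHom.Finite.of_surjective _ hbij.2)
    exact this
  let a : Γ(H.left, ⊤) →ₐ[k] Γ(πN.left, ⊤) :=
    { ψ.left.appTop.hom with
      commutes' := fun r => by
        show ψ.left.appTop (H.hom.appTop _) = πN.hom.appTop _
        rw [← ConcreteCategory.comp_apply, ← Scheme.Hom.comp_appTop, Over.w] }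
  let b : Γ((pres.D.obj i).left, ⊤) →ₐ[k] Γ(πN.left, ⊤) :=
    { πi.left.appTop.hom with
      commutes' := fun r => by
        show πi.left.appTop ((pres.D.obj i).hom.appTop _) = πN.hom.appTop _
        rw [← ConcreteCategory.comp_apply, ← Scheme.Hom.comp_appTop, Over.w] }
  have hle : a.range ≤ b.range := by
    rw [← Algebra.map_top, ← hs, AlgHom.map_adjoin, Algebra.adjoin_le_iff]
    rintro _ ⟨r, hr, rfl⟩
    obtain ⟨z, hz⟩ := hi _ (Finset.mem_image_of_mem _ hr)
    exact ⟨z, hz⟩
  haveI : Module.Finite k b.range := Module.Finite.of_surjective b.rangeRestrict.toLinearMap b.rangeRestrict_surjective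
  haveI : Module.Finite k Γ(H.left, ⊤) :=
    Module.Finite.of_injective (((Subalgebra.inclusion hle).comp a.rangeRestrict).toLinearMap)
      (fun z w e => hinj (congrArg (fun q : b.range => (q : Γ(πN.left, ⊤))) e))
  refine (HasAffineProperty.iff_of_isAffine (P := @IsFinite)).2 ⟨inferInstance, ?_⟩
  have e : H.hom.appTop.hom = tg.comp (Scheme.ΓSpecIso (CommRingCat.of k)).hom.hom := by
    rw [show tg = ((Scheme.ΓSpecIso (CommRingCat.of k)).inv ≫ H.hom.appTop).hom from rfl, ← CommRingCat.hom_comp,
      Iso.hom_inv_id_assoc]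
  show H.hom.appTop.hom.Finite
  rw [e]
  exact RingHom.Finite.comp (inferInstance : Module.Finite k Γ(H.left, ⊤))
    (RingHom.Finite.of_surjective _ (ConcreteCategory.bijective_of_isIso (Scheme.ΓSpecIso (CommRingCat.of k)).hom).2)

theorem exists_point_over [IsAlgClosed k] {X : Scheme.{u}} (x : Spec (CommRingCat.of k) ⟶ X) {T : Over X}
    [IsFinite T.hom] [Surjective T.hom] : ∃ t : Spec (CommRingCat.of k) ⟶ T.left, t ≫ T.hom = x := by
  haveI : IsFinite (pullback.snd T.hom x) := MorphismProperty.pullback_snd (P := @IsFinite) T.hom x inferInstance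
  haveI : Surjective (pullback.snd T.hom x) := MorphismProperty.pullback_snd (P := @Surjective) T.hom x inferInstance
  haveI : JacobsonSpace ↥(pullback T.hom x : Scheme.{u}) :=
    LocallyOfFiniteType.jacobsonSpace (pullback.snd T.hom x)
  obtain ⟨y, -⟩ := (pullback.snd T.hom x).surjective (IsLocalRing.closedPoint k)
  obtain ⟨z, -, hz⟩ := nonempty_inter_closedPoints (Z := Set.univ) ⟨y, trivial⟩ isClosed_univ.isLocallyClosed
  refine ⟨pointOfClosedPoint (pullback.snd T.hom x) z hz ≫ pullback.fst T.hom x, ?_⟩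
  rw [Category.assoc, pullback.condition, pointOfClosedPoint_comp_assoc]

end Groth.Agent.Nori99
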