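import Groth.Prelude.Def_NoriFGS
import Groth.Agent.Tors37.Pseudo
import Groth.Agent.Sga84.TorsorAff
import Groth.Agent.AlgGrp79.Act

/-!
Fibre products of pointed torsors.
-/

set_option autoImplicit false
set_option backward.isDefEq.respectTransparency.types false

noncomputable section

universe u

open CategoryTheory CategoryTheory.Limits MonoidalCategory CartesianMonoidalCategory MonObj AlgebraicGeometry

namespace Groth.Agent.Nori99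

section Abstract

variable {S : Scheme.{u}} {G G₁ G₂ Q T T₁ T₂ : Over S} [GrpObj G] [GrpObj G₁] [GrpObj G₂] [GrpObj Q]
  {φ₁ : G₁ ⟶ G} {φ₂ : G₂ ⟶ G} [IsMonHom φ₁] [IsMonHom φ₂]
  {b : AlgGrp.Action G T} {b₁ : AlgGrp.Action G₁ T₁} {b₂ : AlgGrp.Action G₂ T₂}

theorem equiv_pt {H X Y : Over S} [GrpObj H] {a : AlgGrp.Action H X} {c : AlgGrp.Action H Y} {f : X ⟶ Y}
    (hf : AlgGrp.Action.IsEquivariant a c f) {Z : Over S} (g : Z ⟶ H) (x : Z ⟶ X) :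
    lift g x ≫ a.act ≫ f = lift g (x ≫ f) ≫ c.act := by
  rw [hf, lift_whiskerLeft_assoc]

theorem equiv_of_pt {H X Y : Over S} [GrpObj H] {a : AlgGrp.Action H X} {c : AlgGrp.Action H Y} {f : X ⟶ Y}
    (h : ∀ {Z : Over S} (g : Z ⟶ H) (x : Z ⟶ X), lift g x ≫ a.act ≫ f = lift g (x ≫ f) ≫ c.act) :
    AlgGrp.Action.IsEquivariant a c f := by
  have := h (fst H X) (snd H X)
  rw [lift_fst_snd, Category.id_comp] at this
  rw [AlgGrp.Action.IsEquivariant, this]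
  congr 1

/-- the fibre product of two actions over an action -/
theorem exists_fibre_action {π₁ : Q ⟶ G₁} {π₂ : Q ⟶ G₂} [IsMonHom π₁] [IsMonHom π₂]
    (hQ : IsPullback π₁ π₂ φ₁ φ₂) {f₁ : T₁ ⟶ T} {f₂ : T₂ ⟶ T}
    (hf₁ : AlgGrp.Action.IsEquivariant b₁ (b.restrict φ₁) f₁)
    (hf₂ : AlgGrp.Action.IsEquivariant b₂ (b.restrict φ₂) f₂) :
    ∃ c : AlgGrp.Action Q (pullback f₁ f₂),
      AlgGrp.Action.IsEquivariant c (b₁.restrict π₁) (pullback.fst f₁ f₂) ∧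
      AlgGrp.Action.IsEquivariant c (b₂.restrict π₂) (pullback.snd f₁ f₂) ∧
      (NonAbH1.IsPseudoTorsorSch b → NonAbH1.IsPseudoTorsorSch b₁ → NonAbH1.IsPseudoTorsorSch b₂ →
        NonAbH1.IsPseudoTorsorSch c) := by
  let W := pullback f₁ f₂
  have hcomp : ∀ {Z : Over S} (g : Z ⟶ Q) (w : Z ⟶ W),
      (lift (g ≫ π₁) (w ≫ pullback.fst f₁ f₂) ≫ b₁.act) ≫ f₁ =
        (lift (g ≫ π₂) (w ≫ pullback.snd f₁ f₂) ≫ b₂.act) ≫ f₂ := fun g w => by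
    rw [Category.assoc, Category.assoc, equiv_pt hf₁, equiv_pt hf₂, AlgGrp.Action.lift_restrict_act,
      AlgGrp.Action.lift_restrict_act, Category.assoc, Category.assoc, Category.assoc, Category.assoc, hQ.w,
      pullback.condition]
  let act : Q ⊗ W ⟶ W := pullback.lift _ _ (hcomp (fst Q W) (snd Q W))
  have h1 : ∀ {Z : Over S} (g : Z ⟶ Q) (w : Z ⟶ W),
      (lift g w ≫ act) ≫ pullback.fst f₁ f₂ = lift (g ≫ π₁) (w ≫ pullback.fst f₁ f₂) ≫ b₁.act := fun g w => by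
    rw [Category.assoc, pullback.lift_fst, ← Category.assoc, comp_lift, lift_fst_assoc, lift_snd_assoc]
  have h2 : ∀ {Z : Over S} (g : Z ⟶ Q) (w : Z ⟶ W),
      (lift g w ≫ act) ≫ pullback.snd f₁ f₂ = lift (g ≫ π₂) (w ≫ pullback.snd f₁ f₂) ≫ b₂.act := fun g w => by
    rw [Category.assoc, pullback.lift_snd, ← Category.assoc, comp_lift, lift_fst_assoc, lift_snd_assoc]
  have hone : ∀ {Z : Over S} (w : Z ⟶ W), lift (1 : Z ⟶ Q) w ≫ act = w := fun w => by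
    refine pullback.hom_ext ?_ ?_
    · rw [h1, MonObj.one_comp, AlgGrp79.one_act']
    · rw [h2, MonObj.one_comp, AlgGrp79.one_act']
  have hmul : ∀ {Z : Over S} (g g' : Z ⟶ Q) (w : Z ⟶ W),
      lift (g * g') w ≫ act = lift g (lift g' w ≫ act) ≫ act := fun g g' w => by
    refine pullback.hom_ext ?_ ?_
    · rw [h1, h1, h1, MonObj.mul_comp]
      exact Sga84.actPt_mul b₁ _ _ _
    · rw [h2, h2, h2, MonObj.mul_comp]
      exact Sga84.actPt_mul b₂ _ _ _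
  let c : AlgGrp.Action Q W :=
    { act := act
      one_act := by
        have := hone (Z := 𝟙_ (Over S) ⊗ W) (snd (𝟙_ (Over S)) W)
        rw [leftUnitor_hom]
        refine Eq.trans ?_ this
        congr 1
      mul_act := by
        have := hmul (Z := (Q ⊗ Q) ⊗ W) (fst (Q ⊗ Q) W ≫ fst Q Q) (fst (Q ⊗ Q) W ≫ snd Q Q) (snd (Q ⊗ Q) W)
        rw [← MonObj.comp_mul] at this
        refine Eq.trans ?_ (this.trans ?_)
        · congr 1
          refine CartesianMonoidalCategory.hom_ext _ _ ?_ ?_ <;> simp [Hom.mul_def]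
        · rw [← Category.assoc (α_ Q Q W).hom]
          congr 1
          refine CartesianMonoidalCategory.hom_ext _ _ ?_ ?_
          · simp
          · simp only [lift_snd, Category.assoc, whiskerLeft_snd]
            rw [← Category.assoc]
            congr 1
            refine CartesianMonoidalCategory.hom_ext _ _ ?_ ?_ <;> simp }
  refine ⟨c, equiv_of_pt fun g w => ?_, equiv_of_pt fun g w => ?_, fun hb hb₁ hb₂ => ?_⟩
  · rw [AlgGrp.Action.lift_restrict_act, ← Category.assoc]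
    exact h1 g w
  · rw [AlgGrp.Action.lift_restrict_act, ← Category.assoc]
    exact h2 g w
  · refine Tors37.isPseudoTorsorSch_of_existsUnique c fun {Z} p q => ?_
    obtain ⟨g₁, hg₁, hu₁⟩ :=
      Sga84.existsUnique_actPt b₁ hb₁ (p ≫ pullback.fst f₁ f₂) (q ≫ pullback.fst f₁ f₂)
    obtain ⟨g₂, hg₂, hu₂⟩ :=
      Sga84.existsUnique_actPt b₂ hb₂ (p ≫ pullback.snd f₁ f₂) (q ≫ pullback.snd f₁ f₂)
    have e1 : Sga84.actPt b (g₁ ≫ φ₁) ((p ≫ pullback.fst f₁ f₂) ≫ f₁) = (q ≫ pullback.fst f₁ f₂) ≫ f₁ := by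
      rw [← hg₁, Sga84.actPt, Sga84.actPt, Category.assoc (lift g₁ _), equiv_pt hf₁, AlgGrp.Action.lift_restrict_act]
    have e2 : Sga84.actPt b (g₂ ≫ φ₂) ((p ≫ pullback.fst f₁ f₂) ≫ f₁) = (q ≫ pullback.fst f₁ f₂) ≫ f₁ := by
      simp only [Category.assoc, pullback.condition]
      rw [← Category.assoc p, ← Category.assoc q, ← hg₂, Sga84.actPt, Sga84.actPt, Category.assoc (lift g₂ _),
        equiv_pt hf₂, AlgGrp.Action.lift_restrict_act]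
    have he : g₁ ≫ φ₁ = g₂ ≫ φ₂ := (Sga84.existsUnique_actPt b hb _ _).unique e1 e2
    refine ⟨hQ.lift g₁ g₂ he, ?_, fun g hg => ?_⟩
    · refine pullback.hom_ext ?_ ?_
      · exact (h1 _ p).trans (by rw [hQ.lift_fst]; exact hg₁)
      · exact (h2 _ p).trans (by rw [hQ.lift_snd]; exact hg₂)
    · refine hQ.hom_ext ?_ ?_
      · rw [hQ.lift_fst]
        exact hu₁ _ ((h1 g p).symm.trans (congrArg (· ≫ pullback.fst f₁ f₂) hg))
      · rw [hQ.lift_snd]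
        exact hu₂ _ ((h2 g p).symm.trans (congrArg (· ≫ pullback.snd f₁ f₂) hg))

theorem equivariant_comp {H X Y : Over S} [GrpObj H] {a : AlgGrp.Action H X} {ψ : H ⟶ G₁} [IsMonHom ψ]
    {c : AlgGrp.Action G₁ Y} {f : X ⟶ Y} (hf : AlgGrp.Action.IsEquivariant a (c.restrict ψ) f) {f' : Y ⟶ T}
    (hf' : AlgGrp.Action.IsEquivariant c (b.restrict φ₁) f') {χ : H ⟶ G} [IsMonHom χ] (hχ : ψ ≫ φ₁ = χ) :
    AlgGrp.Action.IsEquivariant a (b.restrict χ) (f ≫ f') :=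
  equiv_of_pt fun g x => by
    rw [← Category.assoc a.act, ← Category.assoc (lift g x), equiv_pt hf, AlgGrp.Action.lift_restrict_act, Category.assoc,
      equiv_pt hf', AlgGrp.Action.lift_restrict_act, AlgGrp.Action.lift_restrict_act, Category.assoc, Category.assoc, hχ]

end Abstract

/-- the main theorem -/
theorem exists_fibre_torsor {k : Type u} [Field k] {X : Scheme.{u}} [X.Over (Spec (CommRingCat.of k))]
    {x : Spec (CommRingCat.of k) ⟶ X} {πN : Over (Spec (CommRingCat.of k))} [GrpObj πN] {P : Over X}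
    {a : AlgGrp.Action (Red.bc (X ↘ Spec (CommRingCat.of k)) πN) P} {p : Spec (CommRingCat.of k) ⟶ P.left}
    (hP : NoriFGS.IsFGS x πN a p)
    {G G₁ G₂ : Over (Spec (CommRingCat.of k))} [GrpObj G] [GrpObj G₁] [GrpObj G₂]
    [IsFinite G.hom] [IsFinite G₁.hom] [IsFinite G₂.hom]
    {φ₁ : G₁ ⟶ G} {φ₂ : G₂ ⟶ G} [IsMonHom φ₁] [IsMonHom φ₂] {T T₁ T₂ : Over X}
    {b : AlgGrp.Action (Red.bc (X ↘ Spec (CommRingCat.of k)) G) T}
    {b₁ : AlgGrp.Action (Red.bc (X ↘ Spec (CommRingCat.of k)) G₁) T₁}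
    {b₂ : AlgGrp.Action (Red.bc (X ↘ Spec (CommRingCat.of k)) G₂) T₂}
    (hT : NonAbH1.IsTorsorFor Scheme.fpqcPrecoverage b)
    (hT₁ : NonAbH1.IsTorsorFor Scheme.fpqcPrecoverage b₁)
    (hT₂ : NonAbH1.IsTorsorFor Scheme.fpqcPrecoverage b₂)
    {t : Spec (CommRingCat.of k) ⟶ T.left} {t₁ : Spec (CommRingCat.of k) ⟶ T₁.left}
    {t₂ : Spec (CommRingCat.of k) ⟶ T₂.left}
    (ht : t ≫ T.hom = x) (ht₁ : t₁ ≫ T₁.hom = x) (ht₂ : t₂ ≫ T₂.hom = x)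
    {f₁ : T₁ ⟶ T} {f₂ : T₂ ⟶ T}
    (hf₁ : NoriFGS.IsPtTorsorHom b₁ t₁ b t φ₁ f₁) (hf₂ : NoriFGS.IsPtTorsorHom b₂ t₂ b t φ₂ f₂)
    {Q : Over (Spec (CommRingCat.of k))} [GrpObj Q] {π₁ : Q ⟶ G₁} {π₂ : Q ⟶ G₂} [IsMonHom π₁] [IsMonHom π₂]
    (hQ : IsPullback π₁ π₂ φ₁ φ₂) :
    ∃ c : AlgGrp.Action (Red.bc (X ↘ Spec (CommRingCat.of k)) Q) (pullback f₁ f₂),
      AlgGrp.Action.IsEquivariant c (b₁.restrict ((Over.pullback (X ↘ Spec (CommRingCat.of k))).map π₁)) (pullback.fst f₁ f₂) ∧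
      AlgGrp.Action.IsEquivariant c (b₂.restrict ((Over.pullback (X ↘ Spec (CommRingCat.of k))).map π₂)) (pullback.snd f₁ f₂) ∧
      NonAbH1.IsTorsorFor Scheme.fpqcPrecoverage c := by
  let F := Over.pullback (X ↘ Spec (CommRingCat.of k))
  obtain ⟨c, hc₁, hc₂, hc⟩ := exists_fibre_action (b := b) (hQ.map F) hf₁.1 hf₂.1
  refine ⟨c, hc₁, hc₂, hc hT.1 hT₁.1 hT₂.1, ?_⟩
  obtain ⟨-, ⟨-, R, hR, hsec⟩, -, huniv⟩ := hP
  obtain ⟨ψ₁, _, g₁, hg₁, -⟩ := huniv G₁ T₁ b₁ t₁ hT₁ ht₁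
  obtain ⟨ψ₂, _, g₂, hg₂, -⟩ := huniv G₂ T₂ b₂ t₂ hT₂ ht₂
  obtain ⟨ψ, _, g, -, hu⟩ := huniv G T b t hT ht
  have e₁ := hu (ψ₁ ≫ φ₁) (g₁ ≫ f₁) ⟨equivariant_comp hg₁.1 hf₁.1 (F.map_comp ψ₁ φ₁).symm, by
    rw [Over.comp_left, ← Category.assoc, hg₁.2, hf₁.2]⟩
  have e₂ := hu (ψ₂ ≫ φ₂) (g₂ ≫ f₂) ⟨equivariant_comp hg₂.1 hf₂.1 (F.map_comp ψ₂ φ₂).symm, by
    rw [Over.comp_left, ← Category.assoc, hg₂.2, hf₂.2]⟩
  let w : P ⟶ pullback f₁ f₂ := pullback.lift g₁ g₂ (e₁.2.trans e₂.2.symm)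
  refine ⟨R, hR, fun S' q hq => ?_⟩
  obtain ⟨s, hs⟩ := hsec q hq
  exact ⟨s ≫ w.left, by rw [Category.assoc, Over.w w, hs]⟩

end Groth.Agent.Nori99
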