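import Groth.Prelude.Def_NoriFGS
import Groth.Prelude.Def_Coh
import Groth.Agent.Grpd80.ImageGrpd
import Groth.Agent.SGA3a.SubGrpOfMono
import Mathlib.AlgebraicGeometry.Morphisms.Finite
import Mathlib.LinearAlgebra.FiniteDimensional.Basic

/-!
Scheme-theoretic images of homomorphisms of group schemes over a field, and orders of finite group schemes.
-/

set_option autoImplicit false
set_option backward.isDefEq.respectTransparency.types false
set_option linter.style.haveILetI false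

noncomputable section

universe u

open CategoryTheory CategoryTheory.Limits MonoidalCategory CartesianMonoidalCategory MonObj GrpObj AlgebraicGeometry

namespace Groth.Agent.Nori99

variable {k : Type u} [Field k]

local notation "S₀" => Spec (CommRingCat.of k)

/-- scheme-theoretically dominant and quasi-compact -/
def Dense {A G : Over S₀} (ψ : A ⟶ G) : Prop :=
  IsSchemeTheoreticallyDominant ψ.left ∧ QuasiCompact ψ.left

theorem exists_image {A G : Over S₀} [GrpObj A] [GrpObj G] (f : A ⟶ G) [IsMonHom f] [QuasiCompact f.left] :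
    ∃ (H : Over S₀) (_ : GrpObj H) (i : H ⟶ G) (_ : IsMonHom i) (_ : IsClosedImmersion i.left)
      (ψ : A ⟶ H) (_ : IsMonHom ψ), Dense ψ ∧ ψ ≫ i = f := by
  let Z : Over S₀ := Over.mk (f.left.imageι ≫ G.hom)
  let i : Z ⟶ G := Over.homMk f.left.imageι rfl
  haveI : IsClosedImmersion i.left := inferInstanceAs (IsClosedImmersion f.left.imageι)
  haveI : Mono i := Over.mono_of_mono_left i
  let ψ : A ⟶ Z := Over.homMk f.left.toImage (by
    show f.left.toImage ≫ f.left.imageι ≫ G.hom = A.hom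
    rw [Scheme.Hom.toImage_imageι_assoc, Over.w])
  haveI hstd : IsSchemeTheoreticallyDominant ψ.left := Grpd80.isSTD_toImage f.left
  haveI hqc : QuasiCompact ψ.left := by
    haveI : QuasiCompact (ψ.left ≫ i.left) := by
      show QuasiCompact (f.left.toImage ≫ f.left.imageι)
      rw [Scheme.Hom.toImage_imageι]; infer_instance
    exact QuasiCompact.of_comp ψ.left i.left
  have hψ : ψ ≫ i = f := Over.OverMorphism.ext (Scheme.Hom.toImage_imageι _)
  have h1 : ∃ z, z ≫ i = (1 : 𝟙_ _ ⟶ G) := ⟨1 ≫ ψ, by rw [Category.assoc, hψ, MonObj.one_comp]⟩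
  have hinv : ∃ z, z ≫ i = i⁻¹ := by
    have e : ψ ≫ i⁻¹ = (𝟙 A)⁻¹ ≫ f := by
      rw [GrpObj.comp_inv, GrpObj.inv_comp, Category.id_comp, hψ]
    obtain ⟨l, hl⟩ := Grpd80.exists_lift_of_std i.left ψ.left (i⁻¹ : Z ⟶ G).left
      ⟨((𝟙 A)⁻¹ ≫ ψ).left, by rw [← Over.comp_left, ← Over.comp_left, Category.assoc, hψ, e]⟩
    refine ⟨Over.homMk l ?_, Over.OverMorphism.ext hl⟩
    show l ≫ i.left ≫ G.hom = Z.hom
    rw [reassoc_of% hl, Over.w]
  have hmul : ∃ z, z ≫ i = (fst Z Z ≫ i) * (snd Z Z ≫ i) := by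
    obtain ⟨_, _⟩ := Grpd80.isSTD_map (Iso.refl S₀) Z.hom Z.hom ψ.left ψ.left
    let m := pullback.map (ψ.left ≫ Z.hom) (ψ.left ≫ Z.hom) Z.hom Z.hom ψ.left ψ.left (𝟙 _) (by simp) (by simp)
    let Q : Over S₀ := Over.mk (m ≫ (Z ⊗ Z).hom)
    let q : Q ⟶ Z ⊗ Z := Over.homMk m rfl
    have h₁ : m ≫ (fst Z Z).left = pullback.fst (ψ.left ≫ Z.hom) (ψ.left ≫ Z.hom) ≫ ψ.left := pullback.lift_fst _ _ _
    have h₂ : m ≫ (snd Z Z).left = pullback.snd (ψ.left ≫ Z.hom) (ψ.left ≫ Z.hom) ≫ ψ.left := pullback.lift_snd _ _ _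
    let p₁ : Q ⟶ A := Over.homMk (pullback.fst _ _) (by
      show pullback.fst (ψ.left ≫ Z.hom) (ψ.left ≫ Z.hom) ≫ A.hom = m ≫ (Z ⊗ Z).hom
      rw [← Over.w (fst Z Z), reassoc_of% h₁, Over.w ψ])
    let p₂ : Q ⟶ A := Over.homMk (pullback.snd _ _) (by
      show pullback.snd (ψ.left ≫ Z.hom) (ψ.left ≫ Z.hom) ≫ A.hom = m ≫ (Z ⊗ Z).hom
      rw [← Over.w (snd Z Z), reassoc_of% h₂, Over.w ψ])
    have e₁ : q ≫ fst Z Z = p₁ ≫ ψ := Over.OverMorphism.ext h₁
    have e₂ : q ≫ snd Z Z = p₂ ≫ ψ := Over.OverMorphism.ext h₂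
    have e : q ≫ ((fst Z Z ≫ i) * (snd Z Z ≫ i)) = (p₁ * p₂) ≫ f := by
      rw [MonObj.comp_mul, reassoc_of% e₁, reassoc_of% e₂, hψ, MonObj.mul_comp]
    obtain ⟨l, hl⟩ := Grpd80.exists_lift_of_std i.left m ((fst Z Z ≫ i) * (snd Z Z ≫ i)).left
      ⟨((p₁ * p₂) ≫ ψ).left, by
        rw [← Over.comp_left, Category.assoc, hψ]
        exact (congrArg CommaMorphism.left e).symm⟩
    refine ⟨Over.homMk l ?_, Over.OverMorphism.ext hl⟩
    show l ≫ i.left ≫ G.hom = (Z ⊗ Z).hom
    rw [reassoc_of% hl, Over.w]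
  letI : GrpObj Z := SGA3a.grpObjOfMono i h1 hmul hinv
  haveI : IsMonHom i := SGA3a.isMonHom_grpObjOfMono i h1 hmul hinv
  haveI : IsMonHom ψ := by
    refine ⟨?_, ?_⟩
    · rw [← cancel_mono i, Category.assoc, hψ, IsMonHom.one_hom, IsMonHom.one_hom]
    · rw [← cancel_mono i, Category.assoc, hψ, IsMonHom.mul_hom, Category.assoc, IsMonHom.mul_hom,
        MonoidalCategory.tensorHom_comp_tensorHom_assoc, hψ]
  exact ⟨Z, inferInstance, i, inferInstance, inferInstance, ψ, inferInstance, ⟨hstd, hqc⟩, hψ⟩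

theorem Dense.cancel {A G D : Over S₀} [IsSeparated D.hom] {ψ : A ⟶ G} (hψ : Dense ψ) {a b : G ⟶ D}
    (h : ψ ≫ a = ψ ≫ b) : a = b := by
  haveI := hψ.1
  haveI := hψ.2
  have hw : a.left ≫ D.hom = b.left ≫ D.hom := by rw [Over.w, Over.w]
  obtain ⟨l, hl⟩ := Grpd80.exists_lift_of_std (pullback.diagonal D.hom) ψ.left (pullback.lift a.left b.left hw)
    ⟨ψ.left ≫ a.left, pullback.hom_ext (by simp only [Category.assoc, pullback.diagonal_fst, Category.comp_id, pullback.lift_fst]) (by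
      simp only [Category.assoc, pullback.diagonal_snd, Category.comp_id, pullback.lift_snd]
      exact congrArg CommaMorphism.left h)⟩
  refine Over.OverMorphism.ext ?_
  have e₁ := congrArg (· ≫ pullback.fst D.hom D.hom) hl
  have e₂ := congrArg (· ≫ pullback.snd D.hom D.hom) hl
  simp only [Category.assoc, pullback.diagonal_fst, pullback.diagonal_snd, pullback.lift_fst, pullback.lift_snd,
    Category.comp_id] at e₁ e₂
  exact e₁.symm.trans e₂

theorem Dense.isIso_of_factor {A H G : Over S₀} {ψ : A ⟶ G} (hψ : Dense ψ) (i : H ⟶ G) [IsClosedImmersion i.left]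
    (ψ' : A ⟶ H) (h : ψ' ≫ i = ψ) : IsIso i := by
  haveI := hψ.1
  haveI := hψ.2
  obtain ⟨l, hl⟩ := Grpd80.exists_lift_of_std i.left ψ.left (𝟙 _)
    ⟨ψ'.left, by rw [Category.comp_id, ← Over.comp_left, h]⟩
  haveI : Mono i := Over.mono_of_mono_left i
  haveI : IsSplitEpi i := IsSplitEpi.mk'
    ⟨Over.homMk l (by rw [← Over.w i, reassoc_of% hl]), Over.OverMorphism.ext hl⟩
  exact isIso_of_mono_of_isSplitEpi i

theorem isSTD_of_comp {X Y Z : Scheme.{u}} (p : X ⟶ Y) (q : Y ⟶ Z) [IsSchemeTheoreticallyDominant (p ≫ q)] :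
    IsSchemeTheoreticallyDominant q := by
  rw [isSchemeTheoreticallyDominant_iff, eq_bot_iff]
  exact (Scheme.Hom.le_ker_comp p q).trans (le_of_eq (Scheme.Hom.ker_eq_bot (p ≫ q)))

/-- the order of a group scheme -/
def ord (G : Over S₀) : ℕ :=
  @Module.finrank k (Coh.Γtop G.left) _ _ (Module.compHom (Coh.Γtop G.left) (Coh.toGlobal G.hom))

theorem isIso_of_ord_le {G' G : Over S₀} [IsFinite G'.hom] [IsFinite G.hom] (q : G' ⟶ G)
    [IsSchemeTheoreticallyDominant q.left] (h : ord G' ≤ ord G) : IsIso q := by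
  haveI : IsAffine G'.left := isAffine_of_isAffineHom G'.hom
  haveI : IsAffine G.left := isAffine_of_isAffineHom G.hom
  haveI : IsFinite q.left := by
    haveI : IsFinite (q.left ≫ G.hom) := by rw [Over.w]; infer_instance
    exact IsFinite.of_comp q.left G.hom
  let tg' : k →+* Γ(G'.left, ⊤) := Coh.toGlobal G'.hom
  letI a' : Algebra k Γ(G'.left, ⊤) := tg'.toAlgebra
  let tg : k →+* Γ(G.left, ⊤) := Coh.toGlobal G.hom
  letI a : Algebra k Γ(G.left, ⊤) := tg.toAlgebra
  haveI : Module.Finite k Γ(G'.left, ⊤) := by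
    have : tg'.Finite :=
      RingHom.Finite.comp (Scheme.Hom.finite_appTop G'.hom)
        (RingHom.Finite.of_surjective _ (ConcreteCategory.bijective_of_isIso (Scheme.ΓSpecIso (CommRingCat.of k)).inv).2)
    exact this
  haveI : Module.Finite k Γ(G.left, ⊤) := by
    have : tg.Finite :=
      RingHom.Finite.comp (Scheme.Hom.finite_appTop G.hom)
        (RingHom.Finite.of_surjective _ (ConcreteCategory.bijective_of_isIso (Scheme.ΓSpecIso (CommRingCat.of k)).inv).2)
    exact this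
  let l : Γ(G.left, ⊤) →ₗ[k] Γ(G'.left, ⊤) :=
    { q.left.appTop.hom with
      map_smul' := fun r x => by
        show q.left.appTop.hom (tg r * x) = tg' r * q.left.appTop.hom x
        rw [map_mul]
        congr 1
        show _ = G'.hom.appTop _
        rw [← Over.w q, Scheme.Hom.comp_appTop]
        rfl }
  have hinj : Function.Injective l := Scheme.Hom.app_injective q.left ⊤
  have e1 : ord G' = Module.finrank k Γ(G'.left, ⊤) := by
    congr 1
  have e2 : ord G = Module.finrank k Γ(G.left, ⊤) := by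
    congr 1
  rw [e1, e2] at h
  have heq := le_antisymm h (LinearMap.finrank_le_finrank_of_injective hinj)
  have hsurj : Function.Surjective l := (LinearMap.injective_iff_surjective_of_finrank_eq_finrank heq.symm).mp hinj
  haveI : IsIso q.left.appTop := (ConcreteCategory.isIso_iff_bijective _).mpr ⟨hinj, hsurj⟩
  haveI : IsIso q.left :=
    ((MorphismProperty.isomorphisms Scheme.{u}).arrow_mk_iso_iff (arrowIsoSpecΓOfIsAffine q.left)).mpr
      (inferInstanceAs (IsIso (Spec.map q.left.appTop)))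
  haveI : IsIso ((Over.forget _).map q) := inferInstanceAs (IsIso q.left)
  exact isIso_of_reflects_iso q (Over.forget _)

end Groth.Agent.Nori99
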