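import Groth.Agent.Nori99.Profinite
import Groth.Agent.Tors37.GAct
import Groth.Agent.Tors37.BC
import Groth.Agent.Push96.Glue

/-!
The homomorphism induced on fundamental group schemes and pull-backs of pointed torsors.
-/

set_option autoImplicit false
set_option backward.isDefEq.respectTransparency.types false
set_option linter.style.haveILetI false

noncomputable section

universe u

open CategoryTheory CategoryTheory.Limits MonoidalCategory CartesianMonoidalCategory MonObj AlgebraicGeometry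

namespace Groth.Agent.Nori99

local notation "K" => Scheme.fpqcPrecoverage

variable {k : Type u} [Field k] {X Y : Scheme.{u}}
  [X.Over (Spec (CommRingCat.of k))] [Y.Over (Spec (CommRingCat.of k))]
  {x : Spec (CommRingCat.of k) ⟶ X} {f : X ⟶ Y}
  {hf : f ≫ (Y ↘ Spec (CommRingCat.of k)) = X ↘ Spec (CommRingCat.of k)}
  {πX πY : Over (Spec (CommRingCat.of k))} [GrpObj πX] [GrpObj πY] {PX : Over X} {PY : Over Y}
  {aX : AlgGrp.Action (Red.bc (X ↘ Spec (CommRingCat.of k)) πX) PX}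
  {aY : AlgGrp.Action (Red.bc (Y ↘ Spec (CommRingCat.of k)) πY) PY}
  {pX : Spec (CommRingCat.of k) ⟶ PX.left} {pY : Spec (CommRingCat.of k) ⟶ PY.left}
  {φ : πX ⟶ πY}

/-- the pulled back action -/
abbrev pull (hf : f ≫ (Y ↘ Spec (CommRingCat.of k)) = X ↘ Spec (CommRingCat.of k))
    {H : Over (Spec (CommRingCat.of k))} [GrpObj H] {U : Over Y}
    (c : AlgGrp.Action (Red.bc (Y ↘ Spec (CommRingCat.of k)) H) U) :
    AlgGrp.Action (Red.bc (X ↘ Spec (CommRingCat.of k)) H) (Red.bc f U) :=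
  (c.bc f).restrict (ActBC.bcCompIso f (Y ↘ Spec (CommRingCat.of k)) H hf).inv

theorem isTorsorFor_pull {H : Over (Spec (CommRingCat.of k))} [GrpObj H] {U : Over Y}
    {c : AlgGrp.Action (Red.bc (Y ↘ Spec (CommRingCat.of k)) H) U} (hc : NonAbH1.IsTorsorFor K c) :
    NonAbH1.IsTorsorFor K (pull hf c) :=
  Tors37.isTorsorFor_restrict _ (NonAbH1.isTorsorFor_bc f _ hc)

theorem map_one' {S T : Scheme.{u}} (w : T ⟶ S) {G H : Over S} [GrpObj H] :
    (Over.pullback w).map (1 : G ⟶ H) = (1 : Red.bc w G ⟶ Red.bc w H) := by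
  simp [Hom.one_def, Functor.obj.η_def]

theorem bcCompIso_inv_naturality {G H : Over (Spec (CommRingCat.of k))} (θ : G ⟶ H) :
    (Over.pullback (X ↘ Spec (CommRingCat.of k))).map θ ≫
        (ActBC.bcCompIso f (Y ↘ Spec (CommRingCat.of k)) H hf).inv =
      (ActBC.bcCompIso f (Y ↘ Spec (CommRingCat.of k)) G hf).inv ≫
        (Over.pullback f).map ((Over.pullback (Y ↘ Spec (CommRingCat.of k))).map θ) := by
  rw [Iso.comp_inv_eq, Category.assoc, ActBC.bcCompIso_hom_naturality, Iso.inv_hom_id_assoc]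

theorem exists_induced_comp (hφ : NoriFGS.IsInducedHom f hf aX pX aY pY φ) [IsMonHom φ]
    (hpX : pX ≫ PX.hom = x) {H : Over (Spec (CommRingCat.of k))} [GrpObj H] {U : Over Y}
    {c : AlgGrp.Action (Red.bc (Y ↘ Spec (CommRingCat.of k)) H) U} {u : Spec (CommRingCat.of k) ⟶ U.left}
    {ψ : πY ⟶ H} [IsMonHom ψ] {g : PY ⟶ U} (hg : NoriFGS.IsPtTorsorHom aY pY c u ψ g)
    (hu : u ≫ U.hom = x ≫ f) :
    ∃ m : PX ⟶ Red.bc f U,
      NoriFGS.IsPtTorsorHom aX pX (pull hf c) (pullback.lift u x hu) (φ ≫ ψ) m := by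
  obtain ⟨_, gX, hgX, hgp⟩ := hφ
  have hgb := AlgGrp.Action.isEquivariant_bc f hg.1
  rw [AlgGrp.Action.bc_restrict] at hgb
  refine ⟨gX ≫ (Over.pullback f).map g, equiv_of_pt fun {Z} h z => ?_, ?_⟩
  · let h₀ := h ≫ (ActBC.bcCompIso f (Y ↘ Spec (CommRingCat.of k)) πX hf).inv
    have e : lift h z ≫ aX.act = lift h₀ z ≫ (aX.restrict (ActBC.bcCompIso f _ πX hf).hom).act := by
      rw [AlgGrp.Action.lift_restrict_act, Category.assoc, Iso.inv_hom_id, Category.comp_id]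
    rw [← Category.assoc (lift h z), e, Category.assoc, ← Category.assoc (AlgGrp.Action.act _),
      ← Category.assoc (lift h₀ z), equiv_pt hgX, AlgGrp.Action.lift_restrict_act, Category.assoc, equiv_pt hgb,
      AlgGrp.Action.lift_restrict_act, AlgGrp.Action.lift_restrict_act, AlgGrp.Action.lift_restrict_act,
      Category.assoc z]
    simp only [h₀, Category.assoc]
    rw [bcCompIso_inv_naturality, Functor.map_comp, Functor.map_comp]
  · refine pullback.hom_ext ?_ ?_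
    · rw [pullback.lift_fst, Over.comp_left, Category.assoc, Category.assoc,
        ActBC.pullback_map_left_fst, reassoc_of% hgp]
      exact hg.2
    · rw [pullback.lift_snd, Category.assoc]
      exact (congrArg (pX ≫ ·) (Over.w (gX ≫ (Over.pullback f).map g))).trans hpX

/-- if a pointed torsor over `Y` has a pull-back with a section then the composite homomorphism is trivial -/
theorem comp_eq_one (hφ : NoriFGS.IsInducedHom f hf aX pX aY pY φ) [IsMonHom φ]
    (hx : x ≫ (X ↘ Spec (CommRingCat.of k)) = 𝟙 _) (hX : NoriFGS.IsFGS x πX aX pX)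
    {H : Over (Spec (CommRingCat.of k))} [GrpObj H] [IsFinite H.hom] {U : Over Y}
    {c : AlgGrp.Action (Red.bc (Y ↘ Spec (CommRingCat.of k)) H) U} {u : Spec (CommRingCat.of k) ⟶ U.left}
    (hc : NonAbH1.IsTorsorFor K c) (hu : u ≫ U.hom = x ≫ f) {ψ : πY ⟶ H} [IsMonHom ψ] {g : PY ⟶ U}
    (hg : NoriFGS.IsPtTorsorHom aY pY c u ψ g) (hsec : NonAbH1.HasSectionOver U f) :
    φ ≫ ψ = toUnit πX ≫ η[H] := by
  obtain ⟨m, hm⟩ := exists_induced_comp hφ hX.2.2.1 hg hu
  obtain ⟨σ₀, hσ₀⟩ := hsec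
  let s := X ↘ Spec (CommRingCat.of k)
  let c' := pull hf c
  have hT := isTorsorFor_pull (hf := hf) hc
  let T := Red.bc f U
  let σ₁ : X ⟶ T.left := pullback.lift σ₀ (𝟙 X) (by rw [Category.id_comp]; exact hσ₀)
  let pt : 𝟙_ (Over (Spec (CommRingCat.of k))) ⟶ (Over.map s).obj T := Over.homMk (pullback.lift u x hu) (by
    show pullback.lift u x hu ≫ pullback.snd U.hom f ≫ s = 𝟙 _
    rw [pullback.lift_snd_assoc, hx])
  let Xk : Over (Spec (CommRingCat.of k)) := Over.mk s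
  let σk : Xk ⟶ (Over.map s).obj T := Over.homMk σ₁ (by
    show σ₁ ≫ pullback.snd U.hom f ≫ s = s
    rw [pullback.lift_snd_assoc, Category.id_comp])
  let xk : 𝟙_ (Over (Spec (CommRingCat.of k))) ⟶ Xk := Over.homMk x hx
  obtain ⟨h, hh, -⟩ := Tors37.existsUnique_gact c' hT.1 (xk ≫ σk) pt (by
    show (x ≫ σ₁) ≫ pullback.snd U.hom f = pullback.lift u x hu ≫ pullback.snd U.hom f
    rw [Category.assoc, pullback.lift_snd, pullback.lift_snd, Category.comp_id])
  let τ := Tors37.gact c' (toUnit Xk ≫ h) σk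
  have hτ : τ.left ≫ T.hom = 𝟙 X := (Tors37.gact_base _ _ _).trans (pullback.lift_snd _ _ _)
  have hxτ : xk ≫ τ = pt := by
    rw [Tors37.comp_gact, ← Category.assoc, toUnit_unique (xk ≫ toUnit Xk) (𝟙 _), Category.id_comp, hh]
  let σ : 𝟙_ (Over X) ⟶ T := Over.homMk τ.left hτ
  let m₀ : PX ⟶ T := toUnit PX ≫ σ
  obtain ⟨ψ₁, _, f₁, -, huniq⟩ := hX.2.2.2 H T c' (pullback.lift u x hu) hT (pullback.lift_snd _ _ _)
  haveI : IsMonHom (toUnit πX ≫ η[H]) := inferInstance
  have h0 : NoriFGS.IsPtTorsorHom aX pX c' (pullback.lift u x hu) (toUnit πX ≫ η[H]) m₀ := by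
    refine ⟨equiv_of_pt fun {Z} h' z => ?_, ?_⟩
    · rw [AlgGrp.Action.lift_restrict_act]
      have e : h' ≫ (Over.pullback s).map (toUnit πX ≫ η[H]) = 1 := by
        rw [show (toUnit πX ≫ η[H]) = (1 : πX ⟶ H) from rfl,
          show (Over.pullback s).map (1 : πX ⟶ H) = 1 from map_one' _, MonObj.comp_one]
      rw [e, AlgGrp79.one_act']
      simp only [m₀, ← Category.assoc]
      congr 1
      exact toUnit_unique _ _
    · show pX ≫ (toUnit PX).left ≫ τ.left = _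
      rw [← Category.assoc, show pX ≫ (toUnit PX).left = x from hX.2.2.1]
      exact congrArg CommaMorphism.left hxτ
  exact (huniq (φ ≫ ψ) m hm).1.trans (huniq _ m₀ h0).1.symm

/-- a trivial induced homomorphism pulls back every pointed torsor to a trivial one -/
theorem hasSection_of_eq_one (hφ : NoriFGS.IsInducedHom f hf aX pX aY pY φ) [IsMonHom φ]
    (hφ1 : φ = toUnit πX ≫ η[πY]) (hX : NoriFGS.IsFGS x πX aX pX)
    {H : Over (Spec (CommRingCat.of k))} [GrpObj H] {U : Over Y}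
    {c : AlgGrp.Action (Red.bc (Y ↘ Spec (CommRingCat.of k)) H) U} {u : Spec (CommRingCat.of k) ⟶ U.left}
    (hu : u ≫ U.hom = x ≫ f) {ψ : πY ⟶ H} [IsMonHom ψ] {g : PY ⟶ U} (hg : NoriFGS.IsPtTorsorHom aY pY c u ψ g) :
    NonAbH1.HasSectionOver U f := by
  obtain ⟨m, hm⟩ := exists_induced_comp hφ hX.2.2.1 hg hu
  obtain ⟨-, ⟨haX, R, hR, hsec⟩, -⟩ := hX
  obtain ⟨J, X', cv, rfl⟩ := R.exists_eq_ofArrows
  have hone : φ ≫ ψ = 1 := by rw [hφ1, show toUnit πX ≫ η[πY] = (1 : πX ⟶ πY) from rfl, MonObj.one_comp]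
  have hinv : ∀ {Z : Over X} (q₁ q₂ : Z ⟶ PX), q₁ ≫ m = q₂ ≫ m := fun {Z} q₁ q₂ => by
    obtain ⟨h, hh, -⟩ := Sga84.existsUnique_actPt aX haX q₁ q₂
    have e : h ≫ (Over.pullback (X ↘ Spec (CommRingCat.of k))).map (φ ≫ ψ) = 1 := by
      rw [hone, show (Over.pullback (X ↘ Spec (CommRingCat.of k))).map (1 : πX ⟶ H) = 1 from
        map_one' _, MonObj.comp_one]
    rw [← hh, Sga84.actPt, Category.assoc, equiv_pt hm.1, AlgGrp.Action.lift_restrict_act, e, AlgGrp79.one_act']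
  obtain ⟨y, -⟩ := Push96.exists_glue hR (T := 𝟙_ (Over X)) (Y := Red.bc f U)
    (fun Z _ y => ∀ (Z' : Over X) (l : Z' ⟶ Z) (q : Z' ⟶ PX), l ≫ y = q ≫ m)
    (fun Z Z' l _ y hy Z'' l' q => by rw [← Category.assoc]; exact hy Z'' (l' ≫ l) q)
    (fun Z _ ⟨j, ⟨q⟩⟩ => by
      obtain ⟨sc, hsc⟩ := hsec (cv j) ⟨j⟩
      let q₀ : Z ⟶ PX := q ≫ Over.homMk sc hsc
      refine ⟨q₀ ≫ m, fun Z' l q' => ?_, fun y hy => ?_⟩
      · rw [← Category.assoc]; exact hinv _ _
      · exact (Category.id_comp y).symm.trans (hy Z (𝟙 Z) q₀))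
  refine ⟨y.left ≫ pullback.fst U.hom f, ?_⟩
  rw [Category.assoc, pullback.condition, ← Category.assoc]
  exact (congrArg (· ≫ f) (Over.w y)).trans (Category.id_comp f)

end Groth.Agent.Nori99
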