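import Groth.Agent.Nori99.Image
import Groth.Agent.Tors37.PointActions
import Groth.Agent.Tors37.Pseudo
import Groth.Agent.Tors37.BC
import Groth.Agent.Torsor99.Basic
import Groth.Agent.Sga84.TorsorDesc
import Groth.Agent.Unr55.DescProps
import Mathlib.AlgebraicGeometry.Sites.Fpqc

/-!
Every subtorsor of a pointed torsor has a pointed companion.
-/

set_option autoImplicit false
set_option backward.isDefEq.respectTransparency.types false
set_option linter.style.haveILetI false

noncomputable section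

universe u

open CategoryTheory MonoidalCategory CartesianMonoidalCategory MonObj AlgebraicGeometry
open Groth.Agent.Tors37

namespace Groth.Agent.Nori99

local notation "K" => Scheme.fpqcPrecoverage

variable {k : Type u} [Field k] {X : Scheme.{u}} {s : X ⟶ Spec (CommRingCat.of k)}
  {G : Over (Spec (CommRingCat.of k))} [GrpObj G] [IsFinite G.hom] {T : Over X}
  (a : AlgGrp.Action (Red.bc s G) T)

theorem exists_pointed_subtorsor (ha : NonAbH1.IsTorsorFor K a) (t : Spec (CommRingCat.of k) ⟶ T.left)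
    (ht : t ≫ T.hom ≫ s = 𝟙 _) {H : Over (Spec (CommRingCat.of k))} [GrpObj H] (i : H ⟶ G) [IsMonHom i]
    [IsClosedImmersion i.left] {V : Over X} (j : V ⟶ T) [IsClosedImmersion j.left]
    (b : AlgGrp.Action (Red.bc s H) V) (hb : NonAbH1.IsTorsorFor K b)
    (hj : AlgGrp.Action.IsEquivariant b (a.restrict ((Over.pullback s).map i)) j) :
    ∃ (H' : Over (Spec (CommRingCat.of k))) (_ : GrpObj H') (_ : IsFinite H'.hom) (i' : H' ⟶ G) (_ : IsMonHom i')
      (_ : IsClosedImmersion i'.left) (V' : Over X) (b' : AlgGrp.Action (Red.bc s H') V') (j' : V' ⟶ T)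
      (t' : Spec (CommRingCat.of k) ⟶ V'.left),
      NonAbH1.IsTorsorFor K b' ∧ AlgGrp.Action.IsEquivariant b' (a.restrict ((Over.pullback s).map i')) j' ∧
        t' ≫ j'.left = t ∧ (IsIso i' → IsIso j) := by
  classical
  haveI hHfinite : IsFinite H.hom := by rw [← Over.w i]; infer_instance
  haveI : IsAffine G.left := isAffine_of_isAffineHom G.hom
  haveI : Mono i := Over.mono_of_mono_left i
  obtain ⟨M, π, hMa, hπ1, hπ2, hπ3, hπ4, hinv, hfib⟩ := exists_coset_quotient i
  haveI := Unr55.isFinite.{u}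
  haveI := Sga84.flat_descendsAlong.{u}
  haveI hVfin : IsFinite V.hom := Sga84.hom_of_isTorsorFor @IsFinite
    (MorphismProperty.pullback_snd (P := @IsFinite) _ _ hHfinite) hb
  haveI hVflat : Flat V.hom := Sga84.hom_of_isTorsorFor @Flat
    (MorphismProperty.pullback_snd (P := @Flat) _ _ inferInstance) hb
  haveI hVsurj : Surjective V.hom := Sga84.surjective_of_isLocallyTrivialFor hb.2
  -- the map to the cosets
  let Tk := (Over.map s).obj T
  let Vk := (Over.map s).obj V
  let jk : Vk ⟶ Tk := (Over.map s).map j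
  let Wk := (Over.map s).obj (T ⊗ V)
  let pt : Wk ⟶ Tk := (Over.map s).map (fst T V)
  let pv : Wk ⟶ Vk := (Over.map s).map (snd T V)
  obtain ⟨g0, hg0, -⟩ := existsUnique_gact a ha.1 (pv ≫ jk) pt (by
    show (snd T V).left ≫ j.left ≫ T.hom = (fst T V).left ≫ T.hom
    rw [Over.w, Over.w, Over.w])
  have hjeq : ∀ {Z : Over (Spec (CommRingCat.of k))} (h : Z ⟶ H) (v : Z ⟶ Vk),
      gact b h v ≫ jk = gact a (h ≫ i) (v ≫ jk) := fun h v => by
    rw [gact_equivariant b hj, gact_restrict]
  let ψ : Wk ⟶ M := g0 ≫ π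
  have hcompat : ∀ {Z : Over (Spec (CommRingCat.of k))} (w₁ w₂ : Z ⟶ Wk),
      w₁ ≫ pt = w₂ ≫ pt → w₁ ≫ ψ = w₂ ≫ ψ := by
    intro Z w₁ w₂ e
    have e1 : ∀ w : Z ⟶ Wk, gact a (w ≫ g0) (w ≫ pv ≫ jk) = w ≫ pt := fun w => by
      rw [← comp_gact, hg0]
    have ebase : ∀ w : Z ⟶ Wk, (w ≫ pv).left ≫ V.hom = (w ≫ pt).left ≫ T.hom := fun w => by
      show (w.left ≫ (snd T V).left) ≫ V.hom = (w.left ≫ (fst T V).left) ≫ T.hom
      rw [Category.assoc, Category.assoc, Over.w, Over.w]
    obtain ⟨h, hh, -⟩ := existsUnique_gact b hb.1 (w₁ ≫ pv) (w₂ ≫ pv) (by rw [ebase, ebase, e])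
    have e2 : gact a ((w₂ ≫ g0) * (h ≫ i)) (w₁ ≫ pv ≫ jk) = gact a (w₁ ≫ g0) (w₁ ≫ pv ≫ jk) := by
      rw [gact_mul, e1, e, ← e1 w₂]
      congr 1
      rw [← Category.assoc, ← hjeq, hh, Category.assoc]
    show w₁ ≫ g0 ≫ π = w₂ ≫ g0 ≫ π
    rw [← Category.assoc, ← Category.assoc, ← gact_inj a ha.1 e2, hinv]
  haveI : IsFinite pt.left := MorphismProperty.pullback_fst (P := @IsFinite) T.hom V.hom hVfin
  haveI : Flat pt.left := MorphismProperty.pullback_fst (P := @Flat) T.hom V.hom hVflat
  haveI : Surjective pt.left := MorphismProperty.pullback_fst (P := @Surjective) T.hom V.hom hVsurj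
  have hker : ∀ {W : Scheme.{u}} (w₁ w₂ : W ⟶ Wk.left), w₁ ≫ pt.left = w₂ ≫ pt.left →
      w₁ ≫ ψ.left = w₂ ≫ ψ.left := by
    intro W w₁ w₂ e
    let Z : Over (Spec (CommRingCat.of k)) := Over.mk (w₁ ≫ Wk.hom)
    have hw₂ : w₂ ≫ Wk.hom = w₁ ≫ Wk.hom := by rw [← Over.w pt, ← Category.assoc, ← e, Category.assoc]
    exact congrArg (fun f => Over.Hom.left f) (hcompat (Z := Z) (Over.homMk w₁ rfl) (Over.homMk w₂ hw₂)
      (Over.OverMorphism.ext e))
  let u : Tk ⟶ M := Over.homMk (EffectiveEpi.desc pt.left ψ.left hker) (by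
    rw [← cancel_epi pt.left, ← Category.assoc, EffectiveEpi.fac pt.left ψ.left hker, Over.w, Over.w])
  have hu : pt ≫ u = g0 ≫ π := Over.OverMorphism.ext (EffectiveEpi.fac pt.left ψ.left hker)
  -- its value on translates of points of the subtorsor
  have hval : ∀ {Z : Over (Spec (CommRingCat.of k))} (g : Z ⟶ G) (v : Z ⟶ Vk),
      gact a g (v ≫ jk) ≫ u = g ≫ π := by
    intro Z g v
    let x := gact a g (v ≫ jk)
    have hbase : x.left ≫ T.hom = v.left ≫ V.hom := by
      rw [gact_base]
      show (v.left ≫ j.left) ≫ T.hom = _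
      rw [Category.assoc, Over.w]
    let w : Z ⟶ Wk := Over.homMk (Limits.pullback.lift x.left v.left hbase) (by
      show Limits.pullback.lift _ _ _ ≫ (Limits.pullback.fst T.hom V.hom ≫ T.hom) ≫ s = _
      rw [Category.assoc, Limits.pullback.lift_fst_assoc]
      exact Over.w x)
    have hw1 : w ≫ pt = x := Over.OverMorphism.ext (Limits.pullback.lift_fst _ _ _)
    have hw2 : w ≫ pv = v := Over.OverMorphism.ext (Limits.pullback.lift_snd _ _ _)
    have hg : w ≫ g0 = g := by
      refine gact_inj a ha.1 (x := v ≫ jk) ?_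
      show gact a (w ≫ g0) (v ≫ jk) = x
      rw [← hw1, ← hg0, comp_gact, reassoc_of% hw2]
    show x ≫ u = _
    rw [← hw1, Category.assoc, hu, ← Category.assoc, hg]
  -- points are locally translates of points of the subtorsor
  have hloc : ∀ {Z : Over (Spec (CommRingCat.of k))} (x : Z ⟶ Tk),
      ∃ (Z' : Over (Spec (CommRingCat.of k))) (e : Z' ⟶ Z) (g : Z' ⟶ G) (v : Z' ⟶ Vk),
        Epi e ∧ gact a g (v ≫ jk) = e ≫ x := by
    intro Z x
    let Z' : Over (Spec (CommRingCat.of k)) := Over.mk (Limits.pullback.fst x.left pt.left ≫ Z.hom)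
    let e : Z' ⟶ Z := Over.homMk (Limits.pullback.fst x.left pt.left) rfl
    let w : Z' ⟶ Wk := Over.homMk (Limits.pullback.snd x.left pt.left) (by
      show Limits.pullback.snd x.left pt.left ≫ Wk.hom = Limits.pullback.fst x.left pt.left ≫ Z.hom
      rw [← Over.w pt, ← Limits.pullback.condition_assoc, Over.w])
    haveI : Flat e.left := MorphismProperty.pullback_fst (P := @Flat) x.left pt.left inferInstance
    haveI : Surjective e.left := MorphismProperty.pullback_fst (P := @Surjective) x.left pt.left inferInstance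
    haveI : QuasiCompact e.left := MorphismProperty.pullback_fst (P := @QuasiCompact) x.left pt.left inferInstance
    refine ⟨Z', e, w ≫ g0, w ≫ pv, Over.epi_of_epi_left e, ?_⟩
    rw [Category.assoc, ← comp_gact, hg0]
    exact Over.OverMorphism.ext Limits.pullback.condition.symm
  -- compatibility with translations
  have hP : ∀ {Z : Over (Spec (CommRingCat.of k))} (g : Z ⟶ G) (x y : Z ⟶ Tk),
      x ≫ u = y ≫ u → gact a g x ≫ u = gact a g y ≫ u := by
    intro Z g x y e
    obtain ⟨Z₁, e₁, gx, vx, _, hx⟩ := hloc x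
    obtain ⟨Z₂, e₂, gy, vy, _, hy⟩ := hloc (e₁ ≫ y)
    have e' : (e₂ ≫ gx) ≫ π = gy ≫ π := by
      have h1 : e₂ ≫ e₁ ≫ x ≫ u = e₂ ≫ e₁ ≫ y ≫ u := by rw [e]
      rw [← reassoc_of% hx, hval, ← reassoc_of% hy, hval, ← Category.assoc] at h1
      exact h1
    obtain ⟨h, hh⟩ := hfib (e₂ ≫ gx) gy e'
    have l1 : e₁ ≫ gact a g x = gact a ((e₁ ≫ g) * gx) (vx ≫ jk) := by rw [comp_gact, ← hx, ← gact_mul]
    have l2 : e₂ ≫ e₁ ≫ gact a g y = gact a ((e₂ ≫ e₁ ≫ g) * gy) (vy ≫ jk) := by
      rw [comp_gact, comp_gact, ← hy, ← gact_mul]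
    rw [← cancel_epi e₁, ← cancel_epi e₂, reassoc_of% l1, reassoc_of% l2, hval, hval, ← Category.assoc e₂,
      MonObj.comp_mul, hh, ← _root_.mul_assoc, hinv]
  -- the stabiliser of the point
  let tk : 𝟙_ (Over (Spec (CommRingCat.of k))) ⟶ Tk := Over.homMk t ht
  let c := tk ≫ u
  let tZ : ∀ Z : Over (Spec (CommRingCat.of k)), Z ⟶ Tk := fun Z => toUnit Z ≫ tk
  have htc : ∀ {Z Z' : Over (Spec (CommRingCat.of k))} (f : Z ⟶ Z'), f ≫ tZ Z' = tZ Z := fun f => by
    rw [← Category.assoc, toUnit_unique (f ≫ toUnit _) (toUnit _)]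
  let μo : G ⟶ M := gact a (𝟙 G) (tZ G) ≫ u
  have hμ : ∀ {Z : Over (Spec (CommRingCat.of k))} (g : Z ⟶ G), g ≫ μo = gact a g (tZ Z) ≫ u := fun g => by
    rw [← Category.assoc, comp_gact, Category.comp_id, htc]
  haveI hccl : IsClosedImmersion c.left := by
    haveI : IsClosedImmersion (c.left ≫ M.hom) := by
      rw [Over.w]; exact inferInstanceAs (IsClosedImmersion (𝟙 _))
    exact IsClosedImmersion.of_comp c.left M.hom
  have hpoint : ∀ {A : Scheme.{u}} (f : A ⟶ M.left),
      Limits.pullback.snd f c.left = Limits.pullback.fst f c.left ≫ f ≫ M.hom := fun f => by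
    rw [Limits.pullback.condition_assoc, Over.w c]
    exact (Category.comp_id _).symm
  let H' : Over (Spec (CommRingCat.of k)) := Over.mk (Limits.pullback.fst μo.left c.left ≫ G.hom)
  let i' : H' ⟶ G := Over.homMk (Limits.pullback.fst μo.left c.left) rfl
  haveI hicl : IsClosedImmersion i'.left :=
    MorphismProperty.pullback_fst (P := @IsClosedImmersion) μo.left c.left hccl
  haveI : Mono i' := Over.mono_of_mono_left i'
  haveI hH'fin : IsFinite H'.hom := by rw [← Over.w i']; infer_instance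
  have hHiff : ∀ {Z : Over (Spec (CommRingCat.of k))} (g : Z ⟶ G),
      (∃ h : Z ⟶ H', h ≫ i' = g) ↔ gact a g (tZ Z) ≫ u = tZ Z ≫ u := by
    intro Z g
    constructor
    · rintro ⟨h, rfl⟩
      rw [← hμ]
      refine Over.OverMorphism.ext ?_
      show (h.left ≫ Limits.pullback.fst μo.left c.left) ≫ μo.left = ((toUnit Z).left ≫ tk.left) ≫ u.left
      rw [Category.assoc, Category.assoc, Limits.pullback.condition, hpoint, Over.w μo, ← Category.assoc]
      congr 1
      exact Over.w h
    · intro e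
      rw [← hμ] at e
      refine ⟨Over.homMk (Limits.pullback.lift g.left (toUnit Z).left ?_) ?_, ?_⟩
      · exact (congrArg (fun f => Over.Hom.left f) e).trans (Category.assoc _ _ _)
      · show Limits.pullback.lift _ _ _ ≫ Limits.pullback.fst μo.left c.left ≫ G.hom = Z.hom
        rw [Limits.pullback.lift_fst_assoc, Over.w]
      · exact Over.OverMorphism.ext (Limits.pullback.lift_fst _ _ _)
  have hHi : ∀ {Z : Over (Spec (CommRingCat.of k))} (h : Z ⟶ H'), gact a (h ≫ i') (tZ Z) ≫ u = tZ Z ≫ u :=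
    fun h => (hHiff _).mp ⟨h, rfl⟩
  have h1 : ∃ z, z ≫ i' = (1 : 𝟙_ _ ⟶ G) := (hHiff _).mpr (by rw [gact_one])
  have h2 : ∃ z, z ≫ i' = (fst H' H' ≫ i') * (snd H' H' ≫ i') := (hHiff _).mpr (by
    rw [gact_mul, hP _ _ _ (hHi (snd H' H')), hHi])
  have h3 : ∃ z, z ≫ i' = i'⁻¹ := (hHiff _).mpr (by
    have h := hHi (𝟙 H')
    rw [Category.id_comp] at h
    have := hP i'⁻¹ _ _ h
    rw [← gact_mul, inv_mul_cancel, gact_one] at this
    exact this.symm)
  letI : GrpObj H' := SGA3a.grpObjOfMono i' h1 h2 h3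
  haveI : IsMonHom i' := SGA3a.isMonHom_grpObjOfMono i' h1 h2 h3
  -- the pointed subtorsor
  let V' : Over X := Over.mk (Limits.pullback.fst u.left c.left ≫ T.hom)
  let j' : V' ⟶ T := Over.homMk (Limits.pullback.fst u.left c.left) rfl
  haveI hjcl : IsClosedImmersion j'.left :=
    MorphismProperty.pullback_fst (P := @IsClosedImmersion) u.left c.left hccl
  haveI : Mono j' := Over.mono_of_mono_left j'
  let Vk' := (Over.map s).obj V'
  let jk' : Vk' ⟶ Tk := (Over.map s).map j'
  have hVu : jk' ≫ u = tZ Vk' ≫ u := by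
    refine Over.OverMorphism.ext ?_
    show Limits.pullback.fst u.left c.left ≫ u.left = ((toUnit Vk').left ≫ tk.left) ≫ u.left
    rw [Category.assoc, Limits.pullback.condition, hpoint, Over.w u]
    show _ = (toUnit Vk').left ≫ c.left
    congr 1
  have hVlift : ∀ {W : Over X} (x : W ⟶ T), (Over.map s).map x ≫ u = tZ _ ≫ u → ∃ y : W ⟶ V', y ≫ j' = x := by
    intro W x e
    refine ⟨Over.homMk (Limits.pullback.lift x.left (toUnit ((Over.map s).obj W)).left
      ((congrArg (fun f => Over.Hom.left f) e).trans (Category.assoc _ _ _))) ?_,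
      Over.OverMorphism.ext (Limits.pullback.lift_fst _ _ _)⟩
    show Limits.pullback.lift _ _ _ ≫ Limits.pullback.fst u.left c.left ≫ T.hom = W.hom
    rw [Limits.pullback.lift_fst_assoc, Over.w]
  obtain ⟨act, hact0⟩ := hVlift ((Red.bc s H' ◁ j') ≫ (a.restrict ((Over.pullback s).map i')).act) (by
    rw [show (Red.bc s H' ◁ j') = lift (fst _ V') (snd _ V' ≫ j') from by ext1 <;> simp, gact_act, gact_restrict,
      Functor.map_comp]
    refine (hP _ _ (tZ _) ?_).trans (hHi _)
    rw [Category.assoc, hVu, ← Category.assoc, htc])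
  let b' : AlgGrp.Action (Red.bc s H') V' :=
    { act := act
      one_act := by
        rw [← cancel_mono j', Category.assoc, hact0, ← whisker_exchange_assoc,
          (a.restrict ((Over.pullback s).map i')).one_act]
        exact leftUnitor_naturality j'
      mul_act := by
        rw [← cancel_mono j']
        simp only [Category.assoc]
        rw [hact0, ← whisker_exchange_assoc, (a.restrict ((Over.pullback s).map i')).mul_act,
          ← MonoidalCategory.whiskerLeft_comp_assoc, hact0,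
          MonoidalCategory.whiskerLeft_comp_assoc, associator_naturality_right_assoc] }
  have hbj : AlgGrp.Action.IsEquivariant b' (a.restrict ((Over.pullback s).map i')) j' := hact0
  have hbp : NonAbH1.IsPseudoTorsorSch b' := by
    refine isPseudoTorsorSch_of_existsUnique b' fun {Z} p q => ?_
    let e := (Over.mapPullbackAdj s).homEquiv Z
    let pk := (Over.map s).map (p ≫ j')
    let qk := (Over.map s).map (q ≫ j')
    have hu' : ∀ x : Z ⟶ V', (Over.map s).map (x ≫ j') ≫ u = tZ _ ≫ u := fun x => by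
      rw [Functor.map_comp, Category.assoc, hVu, ← Category.assoc, htc]
    obtain ⟨g, hg, huniq⟩ := existsUnique_gact a ha.1 pk qk (by
      show (p.left ≫ j'.left) ≫ T.hom = (q.left ≫ j'.left) ≫ T.hom
      rw [Category.assoc, Category.assoc, Over.w, Over.w, Over.w])
    obtain ⟨h, hh⟩ := (hHiff g).mpr (by
      rw [← hP g pk (tZ _) (hu' p), hg]
      exact hu' q)
    have hact : ∀ ξ : Z ⟶ Red.bc s H', (Over.map s).map ((lift ξ p ≫ b'.act) ≫ j') =
        gact a ((e H').symm ξ ≫ i') pk := fun ξ => by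
      rw [Category.assoc, show b'.act ≫ j' = _ from hbj, lift_whiskerLeft_assoc, gact_act, gact_restrict]
    refine ⟨e H' h, ?_, fun ξ hξ => ?_⟩
    · have h0 : (Over.map s).map ((lift (e H' h) p ≫ b'.act) ≫ j') = (Over.map s).map (q ≫ j') := by
        rw [hact, Equiv.symm_apply_apply, hh]; exact hg
      refine (cancel_mono j').mp (Over.OverMorphism.ext ?_)
      exact (congrArg (fun f => f.left) h0 :)
    · refine ((e H').symm.injective ((cancel_mono i').mp ?_))
      rw [Equiv.symm_apply_apply, hh]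
      exact huniq _ (by show gact a _ pk = qk; rw [← hact]; exact congrArg (fun f => (Over.map s).map (f ≫ j')) hξ)
  -- local triviality
  have hbl : NonAbH1.IsLocallyTrivialFor K V' := by
    let C' : Over (Spec (CommRingCat.of k)) := Over.mk (Limits.pullback.snd π.left c.left)
    let ρ : C' ⟶ G := Over.homMk (Limits.pullback.fst π.left c.left) (by
      show Limits.pullback.fst π.left c.left ≫ G.hom = Limits.pullback.snd π.left c.left
      rw [hpoint, Over.w])
    have hρ : ρ ≫ π = tZ C' ≫ u := by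
      refine Over.OverMorphism.ext ?_
      show Limits.pullback.fst π.left c.left ≫ π.left = ((toUnit C').left ≫ tk.left) ≫ u.left
      rw [Category.assoc, Limits.pullback.condition]
      rfl
    haveI : Flat C'.hom := MorphismProperty.pullback_snd (P := @Flat) π.left c.left hπ2
    haveI : Surjective C'.hom := MorphismProperty.pullback_snd (P := @Surjective) π.left c.left hπ4
    haveI : QuasiCompact C'.hom := MorphismProperty.pullback_snd (P := @QuasiCompact) π.left c.left inferInstance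
    let x : Vk ⊗ C' ⟶ Tk := gact a (snd Vk C' ≫ ρ) (fst Vk C' ≫ jk)
    let q : (Vk ⊗ C').left ⟶ X := (fst Vk C').left ≫ V.hom
    have hx : x.left ≫ T.hom = q := by
      rw [gact_base]
      show ((fst Vk C').left ≫ j.left) ≫ T.hom = _
      rw [Category.assoc, Over.w]
    haveI : Flat (fst Vk C').left := MorphismProperty.pullback_fst (P := @Flat) Vk.hom C'.hom inferInstance
    haveI : Surjective (fst Vk C').left := MorphismProperty.pullback_fst (P := @Surjective) Vk.hom C'.hom inferInstance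
    haveI : QuasiCompact (fst Vk C').left :=
      MorphismProperty.pullback_fst (P := @QuasiCompact) Vk.hom C'.hom inferInstance
    have hxu : x.left ≫ u.left = (snd Vk C' ≫ toUnit C').left ≫ c.left := by
      rw [← Over.comp_left, ← Over.comp_left]
      refine congrArg (fun f => Over.Hom.left f) ?_
      rw [show x ≫ u = _ from hval _ _, Category.assoc, hρ]
      simp [tZ, c]
    refine ⟨Presieve.singleton q, Scheme.Hom.singleton_mem_fpqcPrecoverage q, ?_⟩
    rintro S' f ⟨⟩
    exact ⟨Limits.pullback.lift x.left _ hxu, by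
      show Limits.pullback.lift _ _ _ ≫ Limits.pullback.fst u.left c.left ≫ T.hom = q
      rw [Limits.pullback.lift_fst_assoc, hx]⟩
  let t' : Spec (CommRingCat.of k) ⟶ V'.left := Limits.pullback.lift t (𝟙 _) (Category.id_comp _).symm
  refine ⟨H', inferInstance, hH'fin, i', inferInstance, hicl, V', b', j', t', ⟨hbp, hbl⟩, hbj,
    Limits.pullback.lift_fst _ _ _, fun hi' => ?_⟩
  -- the case of the whole group
  have hall : ∀ {Z : Over (Spec (CommRingCat.of k))} (g : Z ⟶ G), gact a g (tZ Z) ≫ u = tZ Z ≫ u :=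
    fun g => (hHiff g).mp ⟨g ≫ inv i', by simp⟩
  obtain ⟨Z', e, gt, v, he, hev⟩ := hloc (tZ G)
  haveI := he
  have hgπ : ∀ g : Z' ⟶ G, g ≫ π = tZ Z' ≫ u := fun g => by
    rw [← hall (g * gt⁻¹), ← htc e, ← hev, ← gact_mul, inv_mul_cancel_right, hval]
  haveI hi : IsIso i := by
    have h0 : 𝟙 G ≫ π = (1 : G ⟶ G) ≫ π := by
      rw [← cancel_epi e, ← Category.assoc, ← Category.assoc, hgπ, hgπ]
    obtain ⟨h, hh⟩ := hfib (1 : G ⟶ G) (𝟙 G) h0.symm
    rw [_root_.one_mul] at hh
    haveI : IsSplitEpi i := IsSplitEpi.mk' ⟨h, hh.symm⟩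
    exact isIso_of_mono_of_isSplitEpi i
  exact Torsor99.isIso_of_equivariant hb (isTorsorFor_restrict _ ha).1 j hj

end Groth.Agent.Nori99
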