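import Groth.Agent.Nori99.FibreProd
import Groth.Agent.Nori99.Reduced
import Groth.Agent.Push96.Exists
import Groth.Agent.Tors37.LimMor

/-!
Finite quotients of the fundamental group scheme.
-/

set_option autoImplicit false
set_option backward.isDefEq.respectTransparency.types false
set_option linter.style.haveILetI false

noncomputable section

universe u

open CategoryTheory CategoryTheory.Limits MonoidalCategory CartesianMonoidalCategory MonObj GrpObj AlgebraicGeometry

namespace Groth.Agent.Nori99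

local notation "K" => Scheme.fpqcPrecoverage

variable {k : Type u} [Field k]



theorem isAffineHom_of_isProFinite {πN : Over (Spec (CommRingCat.of k))} [GrpObj πN] (h : NoriFGS.IsProFinite πN) : IsAffineHom πN.hom := by
  obtain ⟨pres⟩ := h
  letI := pres.cat
  haveI := pres.cofiltered
  haveI : ∀ i, IsAffineHom (pres.D.obj i).hom := fun i => by
    haveI := pres.finite i
    infer_instance
  exact Tors37.isAffineHom_of_isLimit pres.D (Cone.mk πN pres.π) pres.isLimit

theorem isMonHom_lift {A G D : Over (Spec (CommRingCat.of k))} [GrpObj A] [GrpObj G] [GrpObj D] (f : A ⟶ G) [IsMonHom f] (g : A ⟶ D)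
    [IsMonHom g] : IsMonHom (lift f g) where
  one_hom := by
    ext1 <;> simp [IsMonHom.one_hom, MonObj.tensorObj.one_def]
  mul_hom := by
    ext1 <;> simp [IsMonHom.mul_hom, MonObj.tensorObj.mul_def]

variable {X : Scheme.{u}} [X.Over (Spec (CommRingCat.of k))] {x : (Spec (CommRingCat.of k)) ⟶ X} {πN : Over (Spec (CommRingCat.of k))} [GrpObj πN] {P : Over X}
  {a : AlgGrp.Action (Red.bc (X ↘ (Spec (CommRingCat.of k))) πN) P} {p : (Spec (CommRingCat.of k)) ⟶ P.left}

theorem exists_push (hP : NoriFGS.IsFGS x πN a p) {G : Over (Spec (CommRingCat.of k))} [GrpObj G] [IsFinite G.hom] (ψ : πN ⟶ G)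
    [IsMonHom ψ] :
    ∃ (T : Over X) (b : AlgGrp.Action (Red.bc (X ↘ (Spec (CommRingCat.of k))) G) T) (t : (Spec (CommRingCat.of k)) ⟶ T.left) (f : P ⟶ T),
      NonAbH1.IsTorsorFor K b ∧ t ≫ T.hom = x ∧ NoriFGS.IsPtTorsorHom a p b t ψ f := by
  haveI : IsAffineHom (Red.bc (X ↘ (Spec (CommRingCat.of k))) G).hom :=
    MorphismProperty.pullback_snd (P := @IsAffineHom) _ _ inferInstance
  obtain ⟨P', g, hg⟩ := Push96.exists_pushforward ((Over.pullback (X ↘ (Spec (CommRingCat.of k)))).map ψ) ⟨P, a, hP.2.1⟩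
  refine ⟨P'.X, P'.act, p ≫ g.left, g, P'.isTorsor, ?_, equiv_of_pt fun h z => ?_, rfl⟩
  · rw [Category.assoc, Over.w, hP.2.2.1]
  · rw [hg, AlgGrp.Action.lift_restrict_act, comp_lift_assoc, lift_fst_assoc, lift_snd_assoc]

/-- a dense quotient of the fundamental group scheme gives a Nori-reduced torsor -/
theorem isNoriReduced_of_dense (hx : x ≫ (X ↘ (Spec (CommRingCat.of k))) = 𝟙 _) (hP : NoriFGS.IsFGS x πN a p) {G : Over (Spec (CommRingCat.of k))} [GrpObj G]
    [IsFinite G.hom] {ψ : πN ⟶ G} [IsMonHom ψ] (hψ : Dense ψ) {T : Over X}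
    {b : AlgGrp.Action (Red.bc (X ↘ (Spec (CommRingCat.of k))) G) T} {t : (Spec (CommRingCat.of k)) ⟶ T.left} (hT : NonAbH1.IsTorsorFor K b)
    (ht : t ≫ T.hom = x) {f : P ⟶ T} (hf : NoriFGS.IsPtTorsorHom a p b t ψ f) :
    NoriFGS.IsNoriReduced K b := by
  intro H _ i _ _ V j _ c hc hj
  obtain ⟨H', _, _, i', _, _, V', b', j', t', hb', hj', htj, hiso⟩ :=
    exists_pointed_subtorsor b hT t (by rw [reassoc_of% ht, hx]) i j c hc hj
  obtain ⟨-, -, -, huniv⟩ := hP
  obtain ⟨χ, _, g, hg, -⟩ := huniv H' V' b' t' hb' (by rw [← Over.w j', reassoc_of% htj, ht])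
  obtain ⟨ψ₁, _, f₁, -, hu⟩ := huniv G T b t hT ht
  have e := hu (χ ≫ i') (g ≫ j') ⟨equivariant_comp hg.1 hj' ((Over.pullback (X ↘ (Spec (CommRingCat.of k)))).map_comp χ i').symm, by
    rw [Over.comp_left, ← Category.assoc, hg.2, htj]⟩
  have e' := hu ψ f hf
  exact hiso (hψ.isIso_of_factor i' χ (e.1.trans e'.1.symm))

/-- every homomorphism to a finite group has an image with a Nori-reduced torsor -/
theorem exists_reduced_image (hx : x ≫ (X ↘ (Spec (CommRingCat.of k))) = 𝟙 _) (hP : NoriFGS.IsFGS x πN a p) {D : Over (Spec (CommRingCat.of k))} [GrpObj D]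
    [IsFinite D.hom] (χ : πN ⟶ D) [IsMonHom χ] :
    ∃ (G : Over (Spec (CommRingCat.of k))) (_ : GrpObj G) (_ : IsFinite G.hom) (emb : G ⟶ D) (_ : IsMonHom emb) (_ : IsClosedImmersion emb.left)
      (ψ : πN ⟶ G) (_ : IsMonHom ψ) (T : Over X) (b : AlgGrp.Action (Red.bc (X ↘ (Spec (CommRingCat.of k))) G) T) (t : (Spec (CommRingCat.of k)) ⟶ T.left)
      (f : P ⟶ T), Dense ψ ∧ ψ ≫ emb = χ ∧ NonAbH1.IsTorsorFor K b ∧ t ≫ T.hom = x ∧
        NoriFGS.IsPtTorsorHom a p b t ψ f ∧ NoriFGS.IsNoriReduced K b := by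
  haveI := isAffineHom_of_isProFinite hP.1
  haveI : QuasiCompact χ.left := by
    haveI : QuasiCompact (χ.left ≫ D.hom) := by rw [Over.w]; infer_instance
    exact QuasiCompact.of_comp χ.left D.hom
  obtain ⟨G, _, emb, _, _, ψ, _, hψ, hψemb⟩ := exists_image χ
  haveI : IsFinite G.hom := by rw [← Over.w emb]; infer_instance
  obtain ⟨T, b, t, f, hT, ht, hf⟩ := exists_push hP ψ
  exact ⟨G, inferInstance, inferInstance, emb, inferInstance, inferInstance, ψ, inferInstance, T, b, t, f, hψ, hψemb, hT,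
    ht, hf, isNoriReduced_of_dense hx hP hψ hT ht hf⟩

theorem isFinite_of_bound (hx : x ≫ (X ↘ (Spec (CommRingCat.of k))) = 𝟙 _) (hP : NoriFGS.IsFGS x πN a p) (M : ℕ)
    (hM : ∀ (G : Over (Spec (CommRingCat.of k))) [GrpObj G] [IsFinite G.hom] (T : Over X)
      (b : AlgGrp.Action (Red.bc (X ↘ (Spec (CommRingCat.of k))) G) T) (t : (Spec (CommRingCat.of k)) ⟶ T.left),
      NonAbH1.IsTorsorFor K b → t ≫ T.hom = x → NoriFGS.IsNoriReduced K b → ord G ≤ M) :
    IsFinite πN.hom := by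
  obtain ⟨pres⟩ := hP.1
  letI := pres.cat
  haveI := pres.cofiltered
  haveI := isAffineHom_of_isProFinite hP.1
  haveI := pres.finite
  letI := pres.grp
  haveI := pres.isMonHom_π
  let O : Set ℕ := {n | ∃ (G : Over (Spec (CommRingCat.of k))) (_ : GrpObj G) (_ : IsFinite G.hom) (ψ : πN ⟶ G) (_ : IsMonHom ψ),
    Dense ψ ∧ n = ord G}
  have hne : O.Nonempty := by
    obtain ⟨i⟩ := IsCofiltered.nonempty (C := pres.I)
    obtain ⟨G, _, _, -, -, -, ψ, _, -, -, -, -, hψ, -⟩ :=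
      exists_reduced_image hx hP (show πN ⟶ pres.D.obj i from pres.π.app i)
    exact ⟨ord G, G, inferInstance, inferInstance, ψ, inferInstance, hψ, rfl⟩
  have hbdd : BddAbove O := ⟨M, by
    rintro n ⟨G, _, _, ψ, _, hψ, rfl⟩
    obtain ⟨T, b, t, f, hT, ht, hf⟩ := exists_push hP ψ
    exact hM G T b t hT ht (isNoriReduced_of_dense hx hP hψ hT ht hf)⟩
  obtain ⟨G, _, _, ψ, _, hψ, hG⟩ := Nat.sSup_mem hne hbdd
  have hχ : ∀ i, ∃ χ : G ⟶ pres.D.obj i, ψ ≫ χ = pres.π.app i := by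
    intro i
    let πi : πN ⟶ pres.D.obj i := pres.π.app i
    haveI : IsMonHom πi := pres.isMonHom_π i
    haveI : IsFinite (G ⊗ pres.D.obj i).hom := by
      show IsFinite (pullback.fst G.hom (pres.D.obj i).hom ≫ G.hom)
      haveI := MorphismProperty.pullback_fst (P := @IsFinite) G.hom (pres.D.obj i).hom inferInstance
      infer_instance
    haveI := isMonHom_lift ψ πi
    obtain ⟨H, _, _, emb, _, _, ψ', _, -, -, -, -, hψ', hι, -⟩ := exists_reduced_image hx hP (lift ψ πi)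
    let q : H ⟶ G := emb ≫ fst _ _
    have hq : ψ' ≫ q = ψ := by rw [reassoc_of% hι, lift_fst]
    haveI : IsSchemeTheoreticallyDominant (ψ'.left ≫ q.left) := by
      rw [← Over.comp_left, hq]; exact hψ.1
    haveI := isSTD_of_comp ψ'.left q.left
    haveI : IsIso q := isIso_of_ord_le q (hG ▸ le_csSup hbdd ⟨H, inferInstance, inferInstance, ψ', inferInstance, hψ', rfl⟩)
    refine ⟨inv q ≫ emb ≫ snd _ _, ?_⟩
    rw [← hq, Category.assoc, IsIso.hom_inv_id_assoc, reassoc_of% hι, lift_snd]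
  choose χ hχ using hχ
  let c : Cone pres.D := Cone.mk G
    { app := χ
      naturality := fun i j g => by
        refine (hψ.cancel ?_)
        show ψ ≫ 𝟙 G ≫ χ j = ψ ≫ χ i ≫ pres.D.map g
        rw [Category.id_comp, hχ, ← Category.assoc, hχ]
        exact ((Cone.mk πN pres.π).w g).symm }
  let l : G ⟶ πN := pres.isLimit.lift c
  have h1 : ψ ≫ l = 𝟙 πN := pres.isLimit.hom_ext fun i => by
    show (ψ ≫ l) ≫ pres.π.app i = 𝟙 _ ≫ pres.π.app i
    rw [Category.assoc, Category.id_comp, show l ≫ pres.π.app i = χ i from pres.isLimit.fac c i, hχ]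
  have h2 : l ≫ ψ = 𝟙 G := hψ.cancel (by rw [reassoc_of% h1, Category.comp_id])
  haveI : IsIso ψ := ⟨l, h1, h2⟩
  haveI : IsIso ψ.left := inferInstanceAs (IsIso ((Over.forget _).map ψ))
  rw [← Over.w ψ]
  infer_instance

end Groth.Agent.Nori99
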